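import Groth.Agent.Coherent.K50.SectOn
import Groth.Agent.CohqB.HomSheafQCoh
import Groth.Agent.CohqA.RpushLoc

/-!
# Restriction of sections with support and of the sheaf Hom to open subschemes

* `homRes j F : homFunctor F ⋙ restrictFunctor j ≅ restrictFunctor j ⋙ homFunctor (F.restrict j)`.
* `gamRes j i i' h : gammaZ i ⋙ restrictFunctor j ≅ restrictFunctor j ⋙ gammaZ i'`.
-/

set_option autoImplicit false
universe u

open CategoryTheory CategoryTheory.Limits AlgebraicGeometry Opposite TopologicalSpace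

namespace K50.Restr

open K50.SectOn Groth.Agent.Dcoh.MonClosed Groth.Agent.CohqB.HomSheaf

variable {X Y : Scheme.{u}} (j : Y ⟶ X) [IsOpenImmersion j]

section Hom

variable (M N : X.Modules)

/-- The component over `V` of the restriction to `Y` of a section of the sheaf Hom. -/
noncomputable def resComp {W : Y.Opens} (s : Γ(homSheaf M N, j ''ᵁ W)) (V : Y.Opens) (hV : V ≤ W) :
    Γ(M.restrict j, V) →ₗ[Γ(Y, V)] Γ(N.restrict j, V) where
  toFun m := comp s (j ''ᵁ V) (j.image_mono hV) (show Γ(M, j ''ᵁ V) from m)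
  map_add' m m' := map_add (comp s (j ''ᵁ V) (j.image_mono hV)) _ _
  map_smul' r m := map_smul (comp s (j ''ᵁ V) (j.image_mono hV)) ((j.appIso V).inv r) (show Γ(M, j ''ᵁ V) from m)

/-- Restriction to `Y` of the sections of the sheaf Hom. -/
noncomputable def resSec {W : Y.Opens} (s : Γ(homSheaf M N, j ''ᵁ W)) :
    Γ(homSheaf (M.restrict j) (N.restrict j), W) :=
  mkSec (resComp j M N s) (fun V V' hV h m => comp_map s (j.image_mono hV) (j.image_mono h) _)

theorem comp_resSec {W : Y.Opens} (s : Γ(homSheaf M N, j ''ᵁ W)) (V : Y.Opens) (hV : V ≤ W)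
    (m : Γ(M, j ''ᵁ V)) :
    comp (resSec j M N s) V hV m = comp s (j ''ᵁ V) (j.image_mono hV) m := rfl

/-- The comparison map for the sheaf Hom. -/
noncomputable def homResHom : (homSheaf M N).restrict j ⟶ homSheaf (M.restrict j) (N.restrict j) :=
  homMkSec _ _ (fun W =>
    { toFun := fun s => resSec j M N s
      map_zero' := rfl
      map_add' := fun _ _ => rfl })
    (fun W r s => by
      apply sec_ext
      intro V hV m
      change (X.presheaf.map (homOfLE (j.image_mono hV)).op ((j.appIso W).inv r)) •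
        comp (show Γ(homSheaf M N, j ''ᵁ W) from s) (j ''ᵁ V) (j.image_mono hV) m =
        ((j.appIso V).inv (Y.presheaf.map (homOfLE hV).op r)) •
        comp (show Γ(homSheaf M N, j ''ᵁ W) from s) (j ''ᵁ V) (j.image_mono hV) m
      congr 1
      exact congr($((j.appIso_inv_naturality (homOfLE hV).op).symm) r))
    (fun W W' h s => rfl)

theorem homResHom_app (W : Y.Opens) (s : Γ(homSheaf M N, j ''ᵁ W)) :
    (homResHom j M N).app W s = resSec j M N s := rfl

theorem le_range {V : X.Opens} {W : Y.Opens} (hV : V ≤ j ''ᵁ W) : V ≤ j.opensRange := by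
  intro x hx
  obtain ⟨y, _, rfl⟩ := hV hx
  exact ⟨y, rfl⟩

theorem pre_le {V : X.Opens} {W : Y.Opens} (hV : V ≤ j ''ᵁ W) : j ⁻¹ᵁ V ≤ W := by
  intro y hy
  obtain ⟨z, hz, hzy⟩ := hV hy
  rwa [← j.isOpenEmbedding.injective hzy]

open Groth.Agent.Ega1.QCohLoc (res resO)

variable {M N} in
/-- The component over `V` of the extension of a section on `Y` of the sheaf Hom. -/
noncomputable def extComp {W : Y.Opens} (s : Γ(homSheaf (M.restrict j) (N.restrict j), W)) (V : X.Opens)
    (hV : V ≤ j ''ᵁ W) (m : Γ(M, V)) : Γ(N, V) :=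
  res N (le_image_preimage j (le_range j hV)) (show Γ(N, j ''ᵁ (j ⁻¹ᵁ V)) from
    comp s (j ⁻¹ᵁ V) (pre_le j hV) (show Γ(M.restrict j, j ⁻¹ᵁ V) from res M (j.image_preimage_le V) m))

variable {M N} in
theorem extComp_image {W : Y.Opens} (s : Γ(homSheaf (M.restrict j) (N.restrict j), W)) (V : Y.Opens)
    (hV : V ≤ W) (m : Γ(M, j ''ᵁ V)) : extComp j s (j ''ᵁ V) (j.image_mono hV) m = comp s V hV m := by
  have key : ∀ (V' : Y.Opens) (h : V' = V) (h1 : V' ≤ W) (h2 : j ''ᵁ V ≤ j ''ᵁ V') (h3 : j ''ᵁ V' ≤ j ''ᵁ V),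
      res N h2 (show Γ(N, j ''ᵁ V') from comp s V' h1 (show Γ(M.restrict j, V') from res M h3 m)) =
      (show Γ(N, j ''ᵁ V) from comp s V hV m) := by
    rintro V' rfl h1 h2 h3
    rw [Groth.Agent.Ega1.QCohLoc.res_rfl, Groth.Agent.Ega1.QCohLoc.res_rfl]
  exact key _ (j.preimage_image_eq V) _ _ _

variable {M N} in
theorem extComp_map {W : Y.Opens} (s : Γ(homSheaf (M.restrict j) (N.restrict j), W)) (V V' : X.Opens)
    (hV : V ≤ j ''ᵁ W) (h : V' ≤ V) (m : Γ(M, V)) :
    extComp j s V' (h.trans hV) (res M h m) = res N h (extComp j s V hV m) := by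
  have hpre : j ⁻¹ᵁ V' ≤ j ⁻¹ᵁ V := j.preimage_mono h
  have h2 := comp_map s (pre_le j hV) hpre (show Γ(M.restrict j, j ⁻¹ᵁ V) from res M (j.image_preimage_le V) m)
  have h2' : comp s (j ⁻¹ᵁ V') (pre_le j (h.trans hV)) (show Γ(M.restrict j, j ⁻¹ᵁ V') from
      res M (j.image_preimage_le V') (res M h m)) = (N.restrict j).presheaf.map (homOfLE hpre).op
        (comp s (j ⁻¹ᵁ V) (pre_le j hV) (show Γ(M.restrict j, j ⁻¹ᵁ V) from res M (j.image_preimage_le V) m)) := by
    rw [← h2]
    congr 1
    change res M _ (res M _ m) = res M (j.image_mono hpre) (res M _ m)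
    rw [Groth.Agent.Ega1.QCohLoc.res_res, Groth.Agent.Ega1.QCohLoc.res_res]
  unfold extComp
  rw [h2']
  change res N _ (res N (j.image_mono hpre) _) = res N _ (res N _ _)
  rw [Groth.Agent.Ega1.QCohLoc.res_res, Groth.Agent.Ega1.QCohLoc.res_res]

variable {M N} in
theorem extComp_smul {W : Y.Opens} (s : Γ(homSheaf (M.restrict j) (N.restrict j), W)) (V : X.Opens)
    (hV : V ≤ j ''ᵁ W) (r : Γ(X, V)) (m : Γ(M, V)) : extComp j s V hV (r • m) = r • extComp j s V hV m := by
  have key : ∀ (V : X.Opens) (V' : Y.Opens) (h : V = j ''ᵁ V') (hV : V ≤ j ''ᵁ W) (r : Γ(X, V)) (m : Γ(M, V)),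
      extComp j s V hV (r • m) = r • extComp j s V hV m := by
    rintro V V' rfl hV r m
    have hV' : V' ≤ W := by
      have := pre_le j hV
      rwa [j.preimage_image_eq] at this
    rw [extComp_image j s V' hV', extComp_image j s V' hV']
    have h1 := map_smul (comp s V' hV') ((j.appIso V').hom r) (show Γ(M.restrict j, V') from m)
    have h2 : ∀ (P : X.Modules) (p : Γ(P, j ''ᵁ V')), ((j.appIso V').hom r • (show Γ(P.restrict j, V') from p) :
        Γ(P.restrict j, V')) = (r • p : Γ(P, j ''ᵁ V')) := by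
      intro P p
      change ((j.appIso V').inv ((j.appIso V').hom r)) • p = r • p
      rw [← CommRingCat.comp_apply, Iso.hom_inv_id, CommRingCat.id_apply]
    rw [h2] at h1
    exact h1.trans (h2 N _)
  exact key V (j ⁻¹ᵁ V) (by
    rw [Scheme.Hom.image_preimage_eq_opensRange_inf]
    exact (inf_eq_right.2 (le_range j hV)).symm) hV r m

theorem bijective_homResHom (W : Y.Opens) : Function.Bijective ((homResHom j M N).app W) := by
  constructor
  · intro s t h
    apply sec_ext
    intro V hV m
    have key : ∀ (V : X.Opens) (V' : Y.Opens) (h : V = j ''ᵁ V') (hV : V ≤ j ''ᵁ W) (m : Γ(M, V)),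
        comp (show Γ(homSheaf M N, j ''ᵁ W) from s) V hV m = comp (show Γ(homSheaf M N, j ''ᵁ W) from t) V hV m := by
      rintro V V' rfl hV m
      have hV' : V' ≤ W := by
        have := pre_le j hV
        rwa [j.preimage_image_eq] at this
      exact congrArg (fun z : Γ(homSheaf (M.restrict j) (N.restrict j), W) => comp z V' hV' m) h
    exact key V (j ⁻¹ᵁ V) (by
      rw [Scheme.Hom.image_preimage_eq_opensRange_inf]
      exact (inf_eq_right.2 (le_range j hV)).symm) hV m
  · intro s
    refine ⟨mkSec (fun V hV =>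
      { toFun := extComp j s V hV
        map_add' := fun m m' => by
          unfold extComp
          rw [map_add]
          refine (congrArg (res N _) (map_add (comp s (j ⁻¹ᵁ V) (pre_le j hV)) _ _)).trans (map_add _ _ _)
        map_smul' := extComp_smul j s V hV }) (fun V V' hV h m => extComp_map j s V V' hV h m), ?_⟩
    apply sec_ext
    intro V hV m
    exact extComp_image j s V hV m

/-- The sheaf Hom commutes with restriction to open subschemes. -/
noncomputable def homResApp : (homSheaf M N).restrict j ≅ homSheaf (M.restrict j) (N.restrict j) :=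
  haveI : IsIso (homResHom j M N) := Scheme.Modules.Hom.isIso_iff_isIso_app.2 fun W =>
    (ConcreteCategory.isIso_iff_bijective _).2 (bijective_homResHom j M N W)
  asIso (homResHom j M N)

/-- The sheaf Hom commutes with restriction to open subschemes. -/
noncomputable def homRes : homFunctor M ⋙ Scheme.Modules.restrictFunctor j ≅
    Scheme.Modules.restrictFunctor j ⋙ homFunctor (M.restrict j) :=
  NatIso.ofComponents (fun N => homResApp j M N) (fun {N N'} φ => by
    ext W s
    rfl)

end Hom

section Gam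

variable {X Y : Scheme.{u}}

/-- The unit `N ⟶ i_* i^* N` kills a section iff the section vanishes on `U`. -/
theorem unit_app_eq_zero_iff {U : Scheme.{u}} (i : U ⟶ X) [IsOpenImmersion i] (N : X.Modules) (V : X.Opens)
    (s : Γ(N, V)) : ((Scheme.Modules.restrictAdjunction i).unit.app N).app V s = 0 ↔
      N.presheaf.map (homOfLE (inf_le_left : V ⊓ i.opensRange ≤ V)).op s = 0 := by
  rw [Scheme.Modules.restrictAdjunction_unit_app_app]
  have key : ∀ (W : X.Opens) (_ : W = V ⊓ i.opensRange) (h : W ≤ V),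
      N.presheaf.map (homOfLE h).op s = 0 ↔
      N.presheaf.map (homOfLE (inf_le_left : V ⊓ i.opensRange ≤ V)).op s = 0 := by
    rintro W rfl h
    exact Iff.rfl
  exact key (i ''ᵁ (i ⁻¹ᵁ V)) (by rw [Scheme.Hom.image_preimage_eq_opensRange_inf, inf_comm]) _

theorem comp_unit_iff' {U : Scheme.{u}} (i : U ⟶ X) [IsOpenImmersion i] {T N : X.Modules} (t : T ⟶ N) :
    t ≫ (Scheme.Modules.restrictAdjunction i).unit.app N = 0 ↔
      ∀ (V : X.Opens) (m : Γ(T, V)), N.presheaf.map (homOfLE (inf_le_left : V ⊓ i.opensRange ≤ V)).op (t.app V m) = 0 := by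
  constructor
  · intro h V m
    rw [← unit_app_eq_zero_iff]
    exact congrArg (fun ψ : T ⟶ (Scheme.Modules.restrictFunctor i ⋙ Scheme.Modules.pushforward i).obj N => ψ.app V m) h
  · intro h
    ext V m
    exact (unit_app_eq_zero_iff i N V _).2 (h V m)

variable (j : Y ⟶ X) [IsOpenImmersion j] {U U' : Scheme.{u}} (i : U ⟶ X) [IsOpenImmersion i]
  (i' : U' ⟶ Y) [IsOpenImmersion i'] (h : i'.opensRange = j ⁻¹ᵁ i.opensRange)

include h in
theorem comp_unit_iff_res {T : Y.Modules} (N : X.Modules) (t : T ⟶ N.restrict j) :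
    t ≫ (Scheme.Modules.restrictFunctor j).map ((Scheme.Modules.restrictAdjunction i).unit.app N) = 0 ↔
      t ≫ (Scheme.Modules.restrictAdjunction i').unit.app (N.restrict j) = 0 := by
  rw [comp_unit_iff']
  have key : ∀ (V : Y.Opens) (s : Γ(N, j ''ᵁ V)),
      N.presheaf.map (homOfLE (inf_le_left : j ''ᵁ V ⊓ i.opensRange ≤ j ''ᵁ V)).op s = 0 ↔
      (N.restrict j).presheaf.map (homOfLE (inf_le_left : V ⊓ i'.opensRange ≤ V)).op
        (show Γ(N.restrict j, V) from s) = 0 := by
    intro V s
    have aux : ∀ (W : X.Opens) (_ : W = j ''ᵁ V ⊓ i.opensRange) (h : W ≤ j ''ᵁ V),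
        N.presheaf.map (homOfLE (inf_le_left : j ''ᵁ V ⊓ i.opensRange ≤ j ''ᵁ V)).op s = 0 ↔
        N.presheaf.map (homOfLE h).op s = 0 := by
      rintro W rfl h
      exact Iff.rfl
    refine aux (j ''ᵁ (V ⊓ i'.opensRange)) ?_ (j.image_mono inf_le_left)
    rw [h]
    ext x
    constructor
    · rintro ⟨y, ⟨hy1, hy2⟩, rfl⟩
      exact ⟨⟨y, hy1, rfl⟩, hy2⟩
    · rintro ⟨⟨y, hy1, rfl⟩, hy2⟩
      exact ⟨y, ⟨hy1, hy2⟩, rfl⟩
  constructor
  · intro hh V m
    refine (key V _).1 ((unit_app_eq_zero_iff i N _ _).1 ?_)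
    exact congrArg (fun ψ : T ⟶ ((Scheme.Modules.restrictFunctor i ⋙ Scheme.Modules.pushforward i).obj N).restrict j =>
      ψ.app V m) hh
  · intro hh
    ext V m
    exact (unit_app_eq_zero_iff i N (j ''ᵁ V) _).2 ((key V _).2 (hh V m))

/-- Sections with support commute with restriction to open subschemes. -/
noncomputable def gamResApp (N : X.Modules) :
    ((DCoh.gammaZ i).obj N).restrict j ≅ (DCoh.gammaZ i').obj (N.restrict j) :=
  PreservesKernel.iso (Scheme.Modules.restrictFunctor j) ((Scheme.Modules.restrictAdjunction i).unit.app N) ≪≫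
    kernelIso _ _ (fun _ t => comp_unit_iff_res j i i' h N t)

theorem gamResApp_hom_ι (N : X.Modules) :
    (gamResApp j i i' h N).hom ≫ ιG i' (N.restrict j) = (Scheme.Modules.restrictFunctor j).map (ιG i N) := by
  unfold gamResApp
  rw [Iso.trans_hom, Category.assoc]
  refine (congrArg _ (kernelIso_hom_ι _ _ _)).trans ?_
  have e := PreservesKernel.iso_hom (Scheme.Modules.restrictFunctor j)
    ((Scheme.Modules.restrictAdjunction i).unit.app N)
  exact (congrArg (· ≫ kernel.ι _) e).trans (kernelComparison_comp_ι _ (Scheme.Modules.restrictFunctor j))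

/-- Sections with support commute with restriction to open subschemes. -/
noncomputable def gamRes : DCoh.gammaZ i ⋙ Scheme.Modules.restrictFunctor j ≅
    Scheme.Modules.restrictFunctor j ⋙ DCoh.gammaZ i' :=
  NatIso.ofComponents (fun N => gamResApp j i i' h N) (fun {N N'} φ => by
    refine (cancel_mono (ιG i' (N'.restrict j))).1 ?_
    have h1 : ((Scheme.Modules.restrictFunctor j).map ((DCoh.gammaZ i).map φ) ≫ (gamResApp j i i' h N').hom) ≫
        ιG i' (N'.restrict j) = (Scheme.Modules.restrictFunctor j).map (ιG i N) ≫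
          (Scheme.Modules.restrictFunctor j).map φ := by
      rw [Category.assoc, gamResApp_hom_ι, ← Functor.map_comp, ιG_naturality, Functor.map_comp]
    have h2 : ((gamResApp j i i' h N).hom ≫ (DCoh.gammaZ i').map ((Scheme.Modules.restrictFunctor j).map φ)) ≫
        ιG i' (N'.restrict j) = (Scheme.Modules.restrictFunctor j).map (ιG i N) ≫
          (Scheme.Modules.restrictFunctor j).map φ := by
      rw [Category.assoc, ιG_naturality, ← Category.assoc, gamResApp_hom_ι]
    exact h1.trans h2.symm)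

end Gam

end K50.Restr
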