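import Groth.Prelude.Def_ModSite2
import Groth.Prelude.Def_DCoh2
import Groth.Agent.Dcoh.MonClosed
import Mathlib.AlgebraicGeometry.Modules.Sheaf

/-!
# Site-theoretic and scheme-theoretic sections with support; the two sheaf Homs

* `sectOnIso U : ModSite.sectOn X.sheaf U ≅ DCoh.gammaZ U.ι`.
* `sheafHomIso F : ModSite.sheafHom F ≅ homFunctor F`.
-/

set_option autoImplicit false
universe u

open CategoryTheory CategoryTheory.Limits AlgebraicGeometry Opposite TopologicalSpace

namespace K50.SectOn

section Abstract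

universe v₁ v₂ u₁ u₂

variable {C : Type u₁} {D : Type u₂} [Category.{v₁} C] [Category.{v₂} D] [HasZeroMorphisms C] [HasZeroMorphisms D]

/-- A morphism is killed by the unit iff it is killed by the left adjoint. -/
theorem comp_unit_eq_zero_iff {L : C ⥤ D} {R : D ⥤ C} (adj : L ⊣ R) [R.PreservesZeroMorphisms] {T F : C}
    (f : T ⟶ F) : f ≫ adj.unit.app F = 0 ↔ L.map f = 0 := by
  have h1 : adj.homEquiv T (L.obj F) (L.map f) = f ≫ adj.unit.app F := by
    rw [Adjunction.homEquiv_unit]
    exact (adj.unit.naturality f).symm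
  have h2 : adj.homEquiv T (L.obj F) 0 = 0 := by
    rw [Adjunction.homEquiv_unit, R.map_zero, comp_zero]
  rw [← h1]
  constructor
  · intro h
    exact (adj.homEquiv T (L.obj F)).injective (h.trans h2.symm)
  · intro h
    rw [h, h2]

variable {A B F : C} (f : F ⟶ A) (g : F ⟶ B) [HasKernel f] [HasKernel g]

/-- Two morphisms killing the same morphisms have the same kernel. -/
noncomputable def kernelIso (h : ∀ ⦃T : C⦄ (t : T ⟶ F), t ≫ f = 0 ↔ t ≫ g = 0) : kernel f ≅ kernel g where
  hom := kernel.lift g (kernel.ι f) ((h _).1 (kernel.condition f))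
  inv := kernel.lift f (kernel.ι g) ((h _).2 (kernel.condition g))
  hom_inv_id := by
    apply equalizer.hom_ext
    simp
  inv_hom_id := by
    apply equalizer.hom_ext
    simp

theorem kernelIso_hom_ι (h : ∀ ⦃T : C⦄ (t : T ⟶ F), t ≫ f = 0 ↔ t ≫ g = 0) :
    (kernelIso f g h).hom ≫ kernel.ι g = kernel.ι f := kernel.lift_ι _ _ _

end Abstract

variable {X : Scheme.{u}}

theorem restr_map_eq_zero_iff (U : X.Opens) {M N : X.Modules} (f : M ⟶ N) :
    (ModSite.restr (C := X.Opens) (J := Opens.grothendieckTopology X) X.sheaf U).map f = 0 ↔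
      ∀ (V : X.Opens), V ≤ U → ∀ m : Γ(M, V), f.app V m = 0 := by
  constructor
  · intro h V hV m
    exact congrArg (fun ψ : (ModSite.restr (C := X.Opens) (J := Opens.grothendieckTopology X) X.sheaf U).obj M ⟶
      (ModSite.restr (C := X.Opens) (J := Opens.grothendieckTopology X) X.sheaf U).obj N =>
      (ψ.val.app (op (Over.mk (homOfLE hV)))).hom m) h
  · intro h
    apply (SheafOfModules.toSheaf _).map_injective
    ext Y m
    exact h _ (unop Y).hom.le m

theorem restrict_map_eq_zero_iff {Y : Scheme.{u}} (j : Y ⟶ X) [IsOpenImmersion j] {M N : X.Modules} (f : M ⟶ N) :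
    (Scheme.Modules.restrictFunctor j).map f = 0 ↔
      ∀ (V : X.Opens), V ≤ j.opensRange → ∀ m : Γ(M, V), f.app V m = 0 := by
  constructor
  · intro h V hV m
    have h1 : V = j ''ᵁ (j ⁻¹ᵁ V) := by
      rw [Scheme.Hom.image_preimage_eq_opensRange_inf]
      exact (inf_eq_right.2 hV).symm
    have key : ∀ W : X.Opens, W = j ''ᵁ (j ⁻¹ᵁ V) → ∀ m : Γ(M, W), f.app W m = 0 := by
      rintro W rfl m
      exact congrArg (fun ψ : M.restrict j ⟶ N.restrict j => ψ.app (j ⁻¹ᵁ V) m) h
    exact key V h1 m
  · intro h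
    ext W m
    exact h (j ''ᵁ W) (by rintro _ ⟨y, _, rfl⟩; exact ⟨y, rfl⟩) m

theorem comp_unit_iff (U : X.Opens) {T F : X.Modules} (t : T ⟶ F) :
    t ≫ (ModSite.restrPushOverAdj (C := X.Opens) (J := Opens.grothendieckTopology X) X.sheaf U).unit.app F = 0 ↔
      t ≫ (Scheme.Modules.restrictAdjunction U.ι).unit.app F = 0 := by
  have h1 := comp_unit_eq_zero_iff
    (ModSite.restrPushOverAdj (C := X.Opens) (J := Opens.grothendieckTopology X) X.sheaf U) t
  have h2 := comp_unit_eq_zero_iff (Scheme.Modules.restrictAdjunction U.ι) t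
  refine h1.trans (Iff.trans ?_ h2.symm)
  rw [restr_map_eq_zero_iff, restrict_map_eq_zero_iff, Scheme.Opens.opensRange_ι]

/-- Sections with support, on the site and on the scheme (one module). -/
noncomputable def sectOnApp (U : X.Opens) (F : X.Modules) :
    (ModSite.sectOn (C := X.Opens) (J := Opens.grothendieckTopology X) X.sheaf U).obj F ≅ (DCoh.gammaZ U.ι).obj F :=
  kernelIso
      ((ModSite.restrPushOverAdj (C := X.Opens) (J := Opens.grothendieckTopology X) X.sheaf U).unit.app F)
      ((Scheme.Modules.restrictAdjunction U.ι).unit.app F) (fun _ t => comp_unit_iff U t)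

/-- the inclusion of sections with support. -/
noncomputable def ιS (U : X.Opens) (F : X.Modules) :
    (ModSite.sectOn (C := X.Opens) (J := Opens.grothendieckTopology X) X.sheaf U).obj F ⟶ F :=
  (ModSite.sectOnι (C := X.Opens) (J := Opens.grothendieckTopology X) X.sheaf U).app F

theorem ιS_naturality (U : X.Opens) {F G : X.Modules} (φ : F ⟶ G) :
    (ModSite.sectOn (C := X.Opens) (J := Opens.grothendieckTopology X) X.sheaf U).map φ ≫ ιS U G = ιS U F ≫ φ :=
  (ModSite.sectOnι (C := X.Opens) (J := Opens.grothendieckTopology X) X.sheaf U).naturality φ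

/-- the inclusion of sections with support. -/
noncomputable def ιG {Y : Scheme.{u}} (j : Y ⟶ X) [IsOpenImmersion j] (F : X.Modules) : (DCoh.gammaZ j).obj F ⟶ F :=
  kernel.ι ((Scheme.Modules.restrictAdjunction j).unit.app F)

instance mono_ιG {Y : Scheme.{u}} (j : Y ⟶ X) [IsOpenImmersion j] (F : X.Modules) : Mono (ιG j F) :=
  inferInstanceAs (Mono (kernel.ι ((Scheme.Modules.restrictAdjunction j).unit.app F)))

theorem ιG_naturality {Y : Scheme.{u}} (j : Y ⟶ X) [IsOpenImmersion j] {F G : X.Modules} (φ : F ⟶ G) :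
    (DCoh.gammaZ j).map φ ≫ ιG j G = ιG j F ≫ φ := kernel.lift_ι _ _ _

theorem sectOnApp_hom_ι (U : X.Opens) (F : X.Modules) : (sectOnApp U F).hom ≫ ιG U.ι F = ιS U F :=
  kernelIso_hom_ι _ _ (fun _ t => comp_unit_iff U t)

/-- Sections with support, on the site and on the scheme. -/
noncomputable def sectOnIso (U : X.Opens) :
    ModSite.sectOn (C := X.Opens) (J := Opens.grothendieckTopology X) X.sheaf U ≅ DCoh.gammaZ U.ι :=
  NatIso.ofComponents (fun F => sectOnApp U F) (fun {F G} φ => by
    refine (cancel_mono (ιG U.ι G)).1 ?_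
    have h1 : ((ModSite.sectOn (C := X.Opens) (J := Opens.grothendieckTopology X) X.sheaf U).map φ ≫
        (sectOnApp U G).hom) ≫ ιG U.ι G = ιS U F ≫ φ :=
      (Category.assoc _ _ _).trans ((congrArg _ (sectOnApp_hom_ι U G)).trans (ιS_naturality U φ))
    have h2 : ((sectOnApp U F).hom ≫ (DCoh.gammaZ U.ι).map φ) ≫ ιG U.ι G = ιS U F ≫ φ :=
      (Category.assoc _ _ _).trans ((congrArg _ (ιG_naturality U.ι φ)).trans
        ((Category.assoc _ _ _).symm.trans (congrArg (· ≫ φ) (sectOnApp_hom_ι U F))))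
    exact h1.trans h2.symm)

open Groth.Agent.Dcoh.MonClosed

/-- `- ⊗ F ⊣ Hom(F, -)`, for the frozen bifunctor. -/
noncomputable def flipAdj (F : X.Modules) :
    (ModSite.tensorBi (C := X.Opens) (J := Opens.grothendieckTopology X) X.sheaf).flip.obj F ⊣ homFunctor F :=
  tensorRightHomAdj F

theorem hasSheafHom (F : X.Modules) : ModSite.HasSheafHom (O := X.sheaf) F := (flipAdj F).isLeftAdjoint

/-- The frozen sheaf Hom of the site is the concrete one. -/
noncomputable def sheafHomIso (F : X.Modules) [ModSite.HasSheafHom (O := X.sheaf) F] :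
    ModSite.sheafHom (O := X.sheaf) F ≅ homFunctor F :=
  Adjunction.rightAdjointUniq (ModSite.sheafHomAdj (O := X.sheaf) F) (flipAdj F)

instance additive_homFunctor (F : X.Modules) : (homFunctor F).Additive where
  map_add {_ _ _ _} := Groth.Agent.CohqB.HomSheaf.homMap_add _ _

instance preservesLimits_homFunctor (F : X.Modules) : PreservesLimitsOfSize.{0, 0} (homFunctor F) :=
  (tensorHomAdj F).rightAdjoint_preservesLimits

instance preservesFiniteLimits_homFunctor (F : X.Modules) : PreservesFiniteLimits (homFunctor F) :=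
  PreservesLimitsOfSize.preservesFiniteLimits.{0, 0} _

end K50.SectOn
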