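import Groth.Agent.Sga2.ExtLoc
import Groth.Agent.QGor.K966.DepthLocal
import Groth.Agent.Books.SDRegSeq
import Groth.Agent.Ega4A.CMCatenary
import Groth.Agent.Ega4late.H544.Dim
import Groth.Agent.S0563

/-!
# Vanishing of `Ext` over Noetherian rings with regular localizations
-/

set_option autoImplicit false
universe u

open CategoryTheory CategoryTheory.Limits CategoryTheory.Abelian

namespace K50.AlgExt

open Groth.Agent

variable {R : Type u} [CommRing R]

theorem ext_of_subsingleton (M N : ModuleCat.{u} R) [Subsingleton M] (n : ℕ) : Subsingleton (Ext.{u} M N n) := by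
  have h : IsZero M := ModuleCat.isZero_of_subsingleton M
  have : HasProjectiveDimensionLT M 0 := (hasProjectiveDimensionLT_zero_iff_isZero M).2 h
  exact HasProjectiveDimensionLT.subsingleton M 0 n (Nat.zero_le n) N

/-- `Ext^i(M, N) = 0` for `i > dim A` over a regular local ring. -/
theorem ext_of_lt {A : Type u} [CommRing A] [IsRegularLocalRing A] (M N : Type u) [AddCommGroup M] [Module A M]
    [AddCommGroup N] [Module A N] (i : ℕ) (hi : ringKrullDim A < i) :
    Subsingleton (Ext.{u} (ModuleCat.of A M) (ModuleCat.of A N) i) := by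
  obtain ⟨d, hd⟩ := CalgA.RegBasic.ringKrullDim_eq_natCast A
  have := S0563.result A d hd M
  have hdi : d < i := by
    rw [hd] at hi
    exact_mod_cast hi
  exact HasProjectiveDimensionLT.subsingleton (ModuleCat.of A M) (d + 1) i hdi _

section Noeth

variable [IsNoetherianRing R]

/-- Vanishing of `Ext` is local on the support of the first variable. -/
theorem subsingleton_of_forall (M N : Type u) [AddCommGroup M] [Module R M] [Module.Finite R M]
    [AddCommGroup N] [Module R N] (n : ℕ)
    (h : ∀ p ∈ Module.support R M,
      Subsingleton (Ext.{u} (ModuleCat.of (Localization p.asIdeal.primeCompl)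
      (LocalizedModule p.asIdeal.primeCompl M)) (ModuleCat.of (Localization p.asIdeal.primeCompl)
      (LocalizedModule p.asIdeal.primeCompl N)) n)) :
    Subsingleton (Ext.{u} (ModuleCat.of R M) (ModuleCat.of R N) n) := by
  rw [← Module.support_eq_empty_iff (R := R), Set.eq_empty_iff_forall_notMem]
  intro p
  rw [← Sga2.ExtLoc.subsingleton_localized_iff]
  by_cases hp : p ∈ Module.support R M
  · exact h p hp
  · have : Subsingleton (LocalizedModule p.asIdeal.primeCompl M) := Module.notMem_support_iff.1 hp
    exact ext_of_subsingleton (ModuleCat.of (Localization p.asIdeal.primeCompl)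
      (LocalizedModule p.asIdeal.primeCompl M)) _ n

/-- `Ext^i(M, N) = 0` if `dim R_p < i` and `R_p` is regular for all `p` in the support of `M`. -/
theorem ext_of_height_lt (M N : Type u) [AddCommGroup M] [Module R M] [Module.Finite R M]
    [AddCommGroup N] [Module R N] (i : ℕ)
    (hreg : ∀ p : PrimeSpectrum R, IsRegularLocalRing (Localization.AtPrime p.asIdeal))
    (hi : ∀ p ∈ Module.support R M, p.asIdeal.height < i) :
    Subsingleton (Ext.{u} (ModuleCat.of R M) (ModuleCat.of R N) i) := by
  refine subsingleton_of_forall M N i fun p hp => ?_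
  have : IsRegularLocalRing (Localization p.asIdeal.primeCompl) := hreg p
  refine ext_of_lt _ _ i ?_
  have h := IsLocalization.AtPrime.ringKrullDim_eq_height p.asIdeal (Localization.AtPrime p.asIdeal)
  have h2 := hi p hp
  change ringKrullDim (Localization.AtPrime p.asIdeal) < _
  rw [h]
  exact_mod_cast h2

/-- Heights take all values between those of two primes, when the local rings are regular. -/
theorem exists_height (hreg : ∀ p : PrimeSpectrum R, IsRegularLocalRing (Localization.AtPrime p.asIdeal))
    (q : PrimeSpectrum R) (n : ℕ) (hq : q.asIdeal.height ≤ n) (k : ℕ) :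
    ∀ p : PrimeSpectrum R, q ≤ p → p.asIdeal.height = (n + k : ℕ) →
      ∃ x : PrimeSpectrum R, q ≤ x ∧ x ≤ p ∧ x.asIdeal.height = n := by
  have hwf : WellFoundedGT (PrimeSpectrum R) :=
    StrictMono.wellFoundedGT (f := fun x : PrimeSpectrum R => x.asIdeal) (fun _ _ h => h)
  induction k with
  | zero => exact fun p hqp hp => ⟨p, hqp, le_rfl, hp⟩
  | succ k ih =>
    intro p hqp hp
    have hlt : q < p := by
      refine lt_of_le_of_ne hqp ?_
      rintro rfl
      rw [hp] at hq
      have : n + (k + 1) ≤ n := by exact_mod_cast hq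
      omega
    obtain ⟨x, hqx, hxp⟩ := exists_le_covBy_of_lt hlt
    have hreg' := hreg p
    have h1 := Ega4A.CMCatenary.height_eq_of_covBy_of_local hxp
      (fun P _ => Ega4late.H544.Dim.height_add_dim_of_regular _ P)
    have h2 : x.asIdeal.height = (n + k : ℕ) := by
      rw [hp] at h1
      have hne : x.asIdeal.height ≠ ⊤ := Ideal.height_ne_top_of_isPrime
      obtain ⟨a, ha⟩ := ENat.ne_top_iff_exists.mp hne
      rw [← ha] at h1 ⊢
      have : n + (k + 1) = a + 1 := by exact_mod_cast h1
      have : a = n + k := by omega
      rw [this]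
    obtain ⟨y, hy1, hy2, hy3⟩ := ih x hqx h2
    exact ⟨y, hy1, hy2.trans hxp.le, hy3⟩

omit [IsNoetherianRing R] in
theorem smul_localized_eq_zero {M : Type u} [AddCommGroup M] [Module R M] (S : Submonoid R) {r : R}
    (hr : r ∈ Module.annihilator R M) (x : LocalizedModule S M) : algebraMap R (Localization S) r • x = 0 := by
  induction x using LocalizedModule.induction_on with
  | h m s =>
    rw [algebraMap_smul, LocalizedModule.smul'_mk, Module.mem_annihilator.1 hr m, LocalizedModule.zero_mk]

/-- `Ext^n(M, R) = 0` if no prime of the support of `M` has height `n`, when the local rings of `R` are regular. -/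
theorem ext_self_of_height_ne (M : Type u) [AddCommGroup M] [Module R M] [Module.Finite R M] (n : ℕ)
    (hreg : ∀ p : PrimeSpectrum R, IsRegularLocalRing (Localization.AtPrime p.asIdeal))
    (hn : ∀ p ∈ Module.support R M, p.asIdeal.height ≠ n) :
    Subsingleton (Ext.{u} (ModuleCat.of R M) (ModuleCat.of R R) n) := by
  refine subsingleton_of_forall M R n fun p hp => ?_
  have hreg' : IsRegularLocalRing (Localization p.asIdeal.primeCompl) := hreg p
  rcases lt_or_gt_of_ne (hn p hp) with hlt | hgt
  · refine ext_of_lt _ _ n ?_
    have h := IsLocalization.AtPrime.ringKrullDim_eq_height p.asIdeal (Localization.AtPrime p.asIdeal)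
    change ringKrullDim (Localization.AtPrime p.asIdeal) < _
    rw [h]
    exact_mod_cast hlt
  · -- all primes of the support below `p` have height `> n`
    have key : ∀ q ∈ Module.support R M, q ≤ p → ((n + 1 : ℕ) : ℕ∞) ≤ q.asIdeal.height := by
      intro q hq hqp
      by_contra hlt
      have hq1 : q.asIdeal.height ≤ n := by
        have h1 := not_le.1 hlt
        exact ENat.lt_natCast_add_one_iff.1 (by exact_mod_cast h1)
      have hne : p.asIdeal.height ≠ ⊤ := Ideal.height_ne_top_of_isPrime
      obtain ⟨a, ha⟩ := ENat.ne_top_iff_exists.mp hne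
      have hna : n < a := by
        rw [← ha] at hgt
        exact_mod_cast hgt
      obtain ⟨k, rfl⟩ := Nat.exists_eq_add_of_le hna.le
      obtain ⟨x, hx1, hx2, hx3⟩ := exists_height hreg q n hq1 k p hqp ha.symm
      exact hn x (Module.mem_support_mono hx1 hq) hx3
    let A := Localization p.asIdeal.primeCompl
    let I : Ideal A := (Module.annihilator R M).map (algebraMap R A)
    have hsupp : Module.support A (LocalizedModule p.asIdeal.primeCompl M) ⊆
        PrimeSpectrum.zeroLocus (I : Set A) := by
      rw [Module.support_eq_zeroLocus]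
      refine PrimeSpectrum.zeroLocus_anti_mono_ideal ?_
      rw [Ideal.map_le_iff_le_comap]
      intro r hr
      exact Module.mem_annihilator.2 fun x => smul_localized_eq_zero _ hr x
    have hfin : Module.Finite A (LocalizedModule p.asIdeal.primeCompl M) :=
      Module.Finite.of_isLocalizedModule p.asIdeal.primeCompl (LocalizedModule.mkLinearMap p.asIdeal.primeCompl M)
    have hfin' : Module.Finite A (LocalizedModule p.asIdeal.primeCompl R) :=
      Module.Finite.of_isLocalizedModule p.asIdeal.primeCompl (LocalizedModule.mkLinearMap p.asIdeal.primeCompl R)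
    have hA : IsRegularLocalRing A := hreg'
    refine Localalg.Depth.ext_subsingleton_of_lt_idealDepth I _ hsupp _ n ?_
    have e : LocalizedModule p.asIdeal.primeCompl R ≃ₗ[A] A := LinearEquiv.refl A A
    rw [Localalg.Depth.idealDepth_congr_equiv I e]
    refine lt_of_lt_of_le (b := ((n + 1 : ℕ) : ℕ∞)) (by exact_mod_cast Nat.lt_succ_self n) ?_
    refine K966.DepthLocal.le_idealDepth_of_forall I (n + 1) A fun Q hQ hIQ => ?_
    rw [Books.SDRegSeq.depth_localized_eq_height A Q]
    have h3 := IsLocalization.height_under p.asIdeal.primeCompl Q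
    rw [← h3]
    have hQ1 : (Q.under R).IsPrime := inferInstance
    refine key ⟨Q.under R, hQ1⟩ ?_ ?_
    · rw [Module.support_eq_zeroLocus]
      exact Ideal.map_le_iff_le_comap.1 hIQ
    · intro x hx
      by_contra hxp
      exact hQ.ne_top (Ideal.eq_top_of_isUnit_mem _ hx
        (IsLocalization.map_units A (⟨x, hxp⟩ : p.asIdeal.primeCompl)))

/-- `Ext^i(M, N) = 0` for `i < n` if the depth of `N` is at least `n` at the points of the support of `M`. -/
theorem ext_of_depth (M N : Type u) [AddCommGroup M] [Module R M] [Module.Finite R M]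
    [AddCommGroup N] [Module R N] [Module.Finite R N] (n i : ℕ) (hi : i < n)
    (hd : ∀ p ∈ Module.support R M, (n : ℕ∞) ≤ LocCoh.depth (Localization.AtPrime p.asIdeal)
      (LocalizedModule p.asIdeal.primeCompl N)) :
    Subsingleton (Ext.{u} (ModuleCat.of R M) (ModuleCat.of R N) i) := by
  refine Localalg.Depth.ext_subsingleton_of_lt_idealDepth (Module.annihilator R M) M
    (by rw [Module.support_eq_zeroLocus]) N i ?_
  refine lt_of_lt_of_le (b := (n : ℕ∞)) (by exact_mod_cast hi) ?_
  refine K966.DepthLocal.le_idealDepth_of_forall _ n N fun p hp hIp => ?_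
  refine hd ⟨p, hp⟩ ?_
  rw [Module.support_eq_zeroLocus]
  exact hIp

/-- `n ≤ depth N_p` at all points of the support of `M` iff `Ext^i(M, N) = 0` for `i < n`. -/
theorem depth_of_ext (M N : Type u) [AddCommGroup M] [Module R M] [Module.Finite R M]
    [AddCommGroup N] [Module R N] [Module.Finite R N] (n : ℕ)
    (h : ∀ i < n, Subsingleton (Ext.{u} (ModuleCat.of R M) (ModuleCat.of R N) i))
    (p : PrimeSpectrum R) (hp : p ∈ Module.support R M) :
    (n : ℕ∞) ≤ LocCoh.depth (Localization.AtPrime p.asIdeal) (LocalizedModule p.asIdeal.primeCompl N) := by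
  have h1 := (Localalg.Depth.natCast_le_idealDepth_iff_ext_of_support (Module.annihilator R M) M
    Module.support_eq_zeroLocus N n).2 h
  refine h1.trans (Localalg.Depth3.idealDepth_le_depth_localization _ N p.asIdeal ?_)
  rw [Module.support_eq_zeroLocus] at hp
  exact hp

end Noeth

end K50.AlgExt
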