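import Groth.Agent.Coherent.K50.AlgVan
import Groth.Agent.Coherent.K50.AlgExt

/-!
# Finiteness criteria for `R^n (Γ_J Hom_R(M, -))(N)`
-/

set_option autoImplicit false
universe u

open CategoryTheory CategoryTheory.Limits CategoryTheory.Abelian

namespace K50.AlgMain

open K50.HomR K50.AlgVan K50.AlgExt Groth.Agent.Localalg.Gam

variable {R : Type u} [CommRing R] [IsNoetherianRing R] (M : ModuleCat.{u} R) [Module.Finite R M] (J : Ideal R)

/-- The torsion submodule is killed by a power of `J`. -/
theorem exists_pow_smul : ∃ k : ℕ, ∀ a ∈ J ^ k, ∀ m ∈ gam J M, a • m = 0 := by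
  have hfin : Module.Finite R (gam J M) := inferInstance
  obtain ⟨k, hk⟩ := kill_of_forall (ModuleCat.of R (gam J M)) J (N := M) (gam J M).subtype (fun m => m.2)
  exact ⟨k, fun a ha m hm => hk a ha ⟨m, hm⟩⟩

/-- The quotient by the torsion submodule. -/
abbrev bar : ModuleCat.{u} R := ModuleCat.of R (M ⧸ gam J M)

instance : Module.Finite R (bar M J) := inferInstanceAs (Module.Finite R (M ⧸ gam J M))

/-- The quotient by the torsion submodule is torsion free. -/
theorem bar_eq_zero (x : bar M J) (hx : ∀ a ∈ J, a • x = 0) : x = 0 := by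
  obtain ⟨k, hk⟩ := exists_pow_smul M J
  obtain ⟨m, rfl⟩ := Submodule.mkQ_surjective _ x
  have h1 : ∀ a ∈ J, a • m ∈ gam J M := fun a ha => by
    have h2 : (gam J M).mkQ (a • m) = 0 := by
      rw [map_smul]
      exact hx a ha
    rwa [Submodule.mkQ_apply, Submodule.Quotient.mk_eq_zero] at h2
  have h3 : m ∈ gam J M := by
    refine ⟨k + 1, fun a ha => ?_⟩
    rw [pow_succ] at ha
    induction ha using Submodule.mul_induction_on' with
    | mem_mul_mem b hb c hc => rw [mul_smul, hk b hb _ (h1 c hc)]
    | add x _ y _ hx hy => rw [add_smul, hx, hy, add_zero]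
  rw [Submodule.mkQ_apply, Submodule.Quotient.mk_eq_zero]
  exact h3

omit [IsNoetherianRing R] [Module.Finite R M] in
theorem support_bar_subset : Module.support R (bar M J) ⊆ Module.support R M :=
  Module.support_subset_of_surjective (gam J M).mkQ (Submodule.mkQ_surjective _)

/-- Every point of the support of `M / Γ_J M` is a specialization of a point of the support of `M` off `V(J)`. -/
theorem exists_le_of_mem_support (p : PrimeSpectrum R) (hp : p ∈ Module.support R (bar M J)) :
    ∃ q ∈ Module.support R M, q ≤ p ∧ ¬ J ≤ q.asIdeal := by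
  have h1 : Module.annihilator R (bar M J) ≤ p.asIdeal := by
    rw [Module.support_eq_zeroLocus] at hp
    exact hp
  obtain ⟨q, hq, hqp⟩ := Ideal.exists_minimalPrimes_le h1
  have hass : q ∈ associatedPrimes R (bar M J) :=
    Module.associatedPrimes.minimalPrimes_annihilator_subset_associatedPrimes R (bar M J) hq
  have hq' : q.IsPrime := hq.1.1
  refine ⟨⟨q, hq'⟩, support_bar_subset M J ?_, hqp, ?_⟩
  · rw [Module.support_eq_zeroLocus]
    exact hq.1.2
  · intro hJ
    obtain ⟨_, x, hx⟩ := isAssociatedPrime_iff.1 hass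
    have h2 : x = 0 := bar_eq_zero M J x fun a ha => by
      have h3 : a ∈ Submodule.colon (⊥ : Submodule R (bar M J)) {x} := hx ▸ hJ ha
      exact (Submodule.mem_bot R).1 (Submodule.mem_colon_singleton.1 h3)
    refine hq'.ne_top ((Ideal.eq_top_iff_one _).2 ?_)
    rw [hx, Submodule.mem_colon_singleton, h2, smul_zero]
    exact Submodule.zero_mem _

/-- The test modules. -/
abbrev tst (k : ℕ) : ModuleCat.{u} R :=
  ModuleCat.of R (bar M J ⧸ (J ^ k • ⊤ : Submodule R (bar M J)))

omit [IsNoetherianRing R] in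
theorem support_tst (k : ℕ) (p : PrimeSpectrum R) (hp : p ∈ Module.support R (tst M J k)) :
    p ∈ Module.support R (bar M J) ∧ J ≤ p.asIdeal := by
  refine ⟨Module.support_subset_of_surjective (J ^ k • ⊤ : Submodule R (bar M J)).mkQ (Submodule.mkQ_surjective _) hp, ?_⟩
  rw [Module.support_eq_zeroLocus] at hp
  have h1 : J ^ k ≤ Module.annihilator R (tst M J k) := fun a ha => Module.mem_annihilator.2 fun x => by
    obtain ⟨m, rfl⟩ := Submodule.mkQ_surjective _ x
    rw [← map_smul, Submodule.mkQ_apply, Submodule.Quotient.mk_eq_zero]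
    exact Submodule.smul_mem_smul ha trivial
  intro a ha
  exact p.2.mem_of_pow_mem k (hp (h1 (Ideal.pow_mem_pow ha k)))

variable (N : ModuleCat.{u} R) [Module.Finite R N]

/-- Finiteness of `R^n Γ_J Hom(M, -)(N)`. -/
theorem finite_of (n : ℕ) (h : ∀ k, Subsingleton (Ext.{u} (tst M J k) N n)) :
    Module.Finite R (((psi M J).rightDerived n).obj N) :=
  finite_psi M J (gam J M) (exists_pow_smul M J) N n (isZero_psi (bar M J) J N n h)

section Cat

variable (A B : ModuleCat.{u} R) [Module.Finite R A]

theorem ext_of_depthC [Module.Finite R B] (n i : ℕ) (hi : i < n)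
    (hd : ∀ p ∈ Module.support R A, (n : ℕ∞) ≤ LocCoh.depth (Localization.AtPrime p.asIdeal)
      (LocalizedModule p.asIdeal.primeCompl B)) : Subsingleton (Ext.{u} A B i) :=
  ext_of_depth A B n i hi hd

theorem ext_of_height_ltC (i : ℕ)
    (hreg : ∀ p : PrimeSpectrum R, IsRegularLocalRing (Localization.AtPrime p.asIdeal))
    (hi : ∀ p ∈ Module.support R A, p.asIdeal.height < i) : Subsingleton (Ext.{u} A B i) :=
  ext_of_height_lt A B i hreg hi

theorem ext_self_of_height_neC (n : ℕ)
    (hreg : ∀ p : PrimeSpectrum R, IsRegularLocalRing (Localization.AtPrime p.asIdeal))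
    (hn : ∀ p ∈ Module.support R A, p.asIdeal.height ≠ n) :
    Subsingleton (Ext.{u} A (ModuleCat.of R R) n) :=
  ext_self_of_height_ne A n hreg hn

theorem depth_of_extC [Module.Finite R B] (n : ℕ)
    (h : ∀ i < n, Subsingleton (Ext.{u} A B i)) (p : PrimeSpectrum R) (hp : p ∈ Module.support R A) :
    (n : ℕ∞) ≤ LocCoh.depth (Localization.AtPrime p.asIdeal) (LocalizedModule p.asIdeal.primeCompl B) :=
  depth_of_ext A B n h p hp

end Cat

end K50.AlgMain
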