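import Groth.Agent.Coherent.K50.ExtR

/-!
# Vanishing and finiteness of `R^n (Γ_J Hom_R(M, -))`

* `isZero_psi`: `R^n Γ_J Hom(M, -)(N) = 0` if `Ext^n(M/J^k M, N) = 0` for all `k`.
* `finite_psi`: finiteness from the sequence `0 → M' → M → M'' → 0`.
-/

set_option autoImplicit false
universe u

open CategoryTheory CategoryTheory.Limits CategoryTheory.Abelian

namespace K50.AlgVan

open K50.HomR K50.ExtR Groth.Agent.Localalg.Gam

variable {R : Type u} [CommRing R]

section Cx

variable (F : ModuleCat.{u} R ⥤ ModuleCat.{u} R) [F.Additive]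

/-- Vanishing of derived functors by elements. -/
theorem isZero_iff {N : ModuleCat.{u} R} (I : InjectiveResolution N) (n : ℕ) :
    IsZero ((F.rightDerived n).obj N) ↔
      ∀ x : F.obj (I.cocomplex.X n), F.map (I.cocomplex.d n (n + 1)) x = 0 →
        ∃ y : F.obj (I.cocomplex.X ((ComplexShape.up ℕ).prev n)),
          F.map (I.cocomplex.d ((ComplexShape.up ℕ).prev n) n) y = x := by
  rw [(I.isoRightDerivedObj F n).isZero_iff]
  change IsZero (((F.mapHomologicalComplex _).obj I.cocomplex).homology n) ↔ _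
  rw [← HomologicalComplex.exactAt_iff_isZero_homology,
    HomologicalComplex.exactAt_iff' _ ((ComplexShape.up ℕ).prev n) n (n + 1) rfl (by simp),
    ShortComplex.moduleCat_exact_iff]
  rfl

end Cx

variable (M : ModuleCat.{u} R) (J : Ideal R)

/-- Linear maps killed by a power of `J`. -/
def Kill {M : ModuleCat.{u} R} (J : Ideal R) {N : ModuleCat.{u} R} (φ : M →ₗ[R] N) : Prop :=
  ∃ k : ℕ, ∀ a ∈ J ^ k, ∀ m, a • φ m = 0

/-- an element of `Γ_J Hom_R(M, N)`. -/
def mk {N : ModuleCat.{u} R} (φ : M →ₗ[R] N) (h : Kill J φ) : (psi M J).obj N :=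
  (⟨ofL M φ, by
    obtain ⟨k, hk⟩ := h
    exact ⟨k, fun a ha => toL_ext M fun m => hk a ha m⟩⟩ : gam J ((homR M).obj N))

/-- the linear map. -/
def val {N : ModuleCat.{u} R} (x : (psi M J).obj N) : M →ₗ[R] N :=
  toL M (show gam J ((homR M).obj N) from x).1

theorem kill_val {N : ModuleCat.{u} R} (x : (psi M J).obj N) : Kill J (val M J x) := by
  obtain ⟨k, hk⟩ := (show gam J ((homR M).obj N) from x).2
  exact ⟨k, fun a ha m => LinearMap.congr_fun (congrArg (toL M) (hk a ha)) m⟩

theorem val_ext {N : ModuleCat.{u} R} {x y : (psi M J).obj N} (h : ∀ m, val M J x m = val M J y m) : x = y :=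
  Subtype.ext (a1 := (show gam J ((homR M).obj N) from x)) (a2 := (show gam J ((homR M).obj N) from y))
    (toL_ext M h)

theorem val_mk {N : ModuleCat.{u} R} (φ : M →ₗ[R] N) (h : Kill J φ) : val M J (mk M J φ h) = φ := rfl

theorem val_map {N N' : ModuleCat.{u} R} (f : N ⟶ N') (x : (psi M J).obj N) (m : M) :
    val M J ((psi M J).map f x) m = f (val M J x m) := rfl

theorem val_zero {N : ModuleCat.{u} R} (m : M) : val M J (0 : (psi M J).obj N) m = 0 := rfl

theorem kill_of_torsion {k : ℕ} (hM : ∀ a ∈ J ^ k, ∀ m : M, a • m = 0) {N : ModuleCat.{u} R} (φ : M →ₗ[R] N) :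
    Kill J φ :=
  ⟨k, fun a ha m => by rw [← map_smul, hM a ha m, map_zero]⟩

theorem isZero_psi_iff {N : ModuleCat.{u} R} (I : InjectiveResolution N) (n : ℕ) :
    IsZero (((psi M J).rightDerived n).obj N) ↔
      ∀ φ : M →ₗ[R] I.cocomplex.X n, Kill J φ → (∀ m, I.cocomplex.d n (n + 1) (φ m) = 0) →
        ∃ ψ : M →ₗ[R] I.cocomplex.X ((ComplexShape.up ℕ).prev n), Kill J ψ ∧
          ∀ m, I.cocomplex.d ((ComplexShape.up ℕ).prev n) n (ψ m) = φ m := by
  rw [isZero_iff (psi M J) I n]
  constructor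
  · intro h φ hφ hd
    obtain ⟨y, hy⟩ := h (mk M J φ hφ) (val_ext M J fun m => hd m)
    refine ⟨val M J y, kill_val M J y, fun m => ?_⟩
    rw [← val_map, hy]
    rfl
  · intro h x hx
    obtain ⟨ψ, hψ, hd⟩ := h (val M J x) (kill_val M J x) (fun m => by
      rw [← val_map, hx]
      rfl)
    exact ⟨mk M J ψ hψ, val_ext M J hd⟩

theorem isZero_homR_iff {N : ModuleCat.{u} R} (I : InjectiveResolution N) (n : ℕ) :
    IsZero (((homR M).rightDerived n).obj N) ↔
      ∀ φ : M →ₗ[R] I.cocomplex.X n, (∀ m, I.cocomplex.d n (n + 1) (φ m) = 0) →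
        ∃ ψ : M →ₗ[R] I.cocomplex.X ((ComplexShape.up ℕ).prev n),
          ∀ m, I.cocomplex.d ((ComplexShape.up ℕ).prev n) n (ψ m) = φ m := by
  rw [isZero_iff (homR M) I n]
  constructor
  · intro h φ hd
    obtain ⟨y, hy⟩ := h (ofL M φ) (toL_ext M fun m => hd m)
    refine ⟨toL M y, fun m => ?_⟩
    rw [← toL_map, hy]
    rfl
  · intro h x hx
    obtain ⟨ψ, hd⟩ := h (toL M x) (fun m => by
      rw [← toL_map, hx]
      rfl)
    exact ⟨ofL M ψ, toL_ext M hd⟩

theorem isZero_homR_iff_ext (N : ModuleCat.{u} R) (n : ℕ) :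
    IsZero (((homR M).rightDerived n).obj N) ↔ Subsingleton (Ext.{u} M N n) := by
  rw [(rdExt M N n).isZero_iff, ModuleCat.isZero_iff_subsingleton]

/-- **Vanishing**: `R^n Γ_J Hom(M, -)(N) = 0` if `Ext^n(M/J^k M, N) = 0` for all `k`. -/
theorem isZero_psi (N : ModuleCat.{u} R) (n : ℕ)
    (h : ∀ k : ℕ, Subsingleton (Ext.{u} (ModuleCat.of R (M ⧸ (J ^ k • ⊤ : Submodule R M))) N n)) :
    IsZero (((psi M J).rightDerived n).obj N) := by
  rw [isZero_psi_iff M J (injectiveResolution N) n]
  rintro φ ⟨k, hk⟩ hd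
  have hle : (J ^ k • ⊤ : Submodule R M) ≤ LinearMap.ker φ := by
    rw [Submodule.smul_le]
    intro a ha m _
    rw [LinearMap.mem_ker, map_smul]
    exact hk a ha m
  have h1 := (isZero_homR_iff (ModuleCat.of R (M ⧸ (J ^ k • ⊤ : Submodule R M))) (injectiveResolution N) n).1
    ((isZero_homR_iff_ext _ N n).2 (h k))
  obtain ⟨ψ, hψ⟩ := h1 ((J ^ k • ⊤ : Submodule R M).liftQ φ hle) (fun m => by
    obtain ⟨m, rfl⟩ := Submodule.mkQ_surjective _ m
    exact hd m)
  refine ⟨ψ ∘ₗ (J ^ k • ⊤ : Submodule R M).mkQ, ⟨k, fun a ha m => ?_⟩, fun m => ?_⟩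
  · change a • ψ ((J ^ k • ⊤ : Submodule R M).mkQ m) = 0
    rw [← map_smul, ← map_smul]
    have h2 : (J ^ k • ⊤ : Submodule R M).mkQ (a • m) = 0 := by
      rw [Submodule.mkQ_apply, Submodule.Quotient.mk_eq_zero]
      exact Submodule.smul_mem_smul ha trivial
    rw [h2, map_zero]
  · exact hψ _

section Hom

/-- Injectivity on homology by elements. -/
theorem injective_homologyMap {K L : CochainComplex (ModuleCat.{u} R) ℕ} (f : K ⟶ L) (n : ℕ)
    (h : ∀ x : K.X n, K.d n (n + 1) x = 0 → ∀ y : L.X ((ComplexShape.up ℕ).prev n),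
      L.d ((ComplexShape.up ℕ).prev n) n y = f.f n x →
        ∃ z : K.X ((ComplexShape.up ℕ).prev n), K.d ((ComplexShape.up ℕ).prev n) n z = x) :
    Function.Injective (HomologicalComplex.homologyMap f n) := by
  refine (injective_iff_map_eq_zero (HomologicalComplex.homologyMap f n).hom).2 ?_
  intro w hw
  have hepi : Function.Surjective (K.homologyπ n) := (ModuleCat.epi_iff_surjective _).1 inferInstance
  obtain ⟨c, rfl⟩ := hepi w
  have e1 : L.homologyπ n (HomologicalComplex.cyclesMap f n c) = 0 := by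
    have e := ConcreteCategory.congr_hom (HomologicalComplex.homologyπ_naturality f n) c
    exact e.symm.trans hw
  have ex := ShortComplex.exact_of_g_is_cokernel
    (ShortComplex.mk (L.toCycles ((ComplexShape.up ℕ).prev n) n) (L.homologyπ n) (L.toCycles_comp_homologyπ _ _))
    (L.homologyIsCokernel _ n rfl)
  rw [ShortComplex.moduleCat_exact_iff] at ex
  obtain ⟨y, hy⟩ := ex _ e1
  have e2 : L.d ((ComplexShape.up ℕ).prev n) n y = f.f n (K.iCycles n c) := by
    have e := ConcreteCategory.congr_hom (L.toCycles_i ((ComplexShape.up ℕ).prev n) n) y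
    have e' := ConcreteCategory.congr_hom (HomologicalComplex.cyclesMap_i f n) c
    exact (e.symm.trans (congrArg (L.iCycles n) hy)).trans e'
  obtain ⟨z, hz⟩ := h (K.iCycles n c) (ConcreteCategory.congr_hom (K.iCycles_d n (n + 1)) c) y e2
  have hmono : Function.Injective (K.iCycles n) := (ModuleCat.mono_iff_injective _).1 inferInstance
  have e3 : K.toCycles ((ComplexShape.up ℕ).prev n) n z = c := by
    apply hmono
    exact (ConcreteCategory.congr_hom (K.toCycles_i ((ComplexShape.up ℕ).prev n) n) z).trans hz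
  have e4 := ConcreteCategory.congr_hom (K.toCycles_comp_homologyπ ((ComplexShape.up ℕ).prev n) n) z
  exact (congrArg (K.homologyπ n) e3.symm).trans e4

end Hom

section Fin

variable (M' : Submodule R M)

/-- restriction to a submodule. -/
def resNat : psi M J ⟶ homR (ModuleCat.of R M') where
  app N := ModuleCat.ofHom
    { toFun := fun x => ofL (ModuleCat.of R M') (val M J x ∘ₗ M'.subtype)
      map_add' := fun _ _ => rfl
      map_smul' := fun _ _ => rfl }
  naturality _ _ _ := rfl

theorem toL_resNat {N : ModuleCat.{u} R} (x : (psi M J).obj N) (m : M') :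
    toL (ModuleCat.of R M') ((resNat M J M').app N x) m = val M J x m := rfl

theorem kill_of_forall [Module.Finite R M] {N : ModuleCat.{u} R} (φ : M →ₗ[R] N) (h : ∀ m, φ m ∈ gam J N) :
    Kill J φ := by
  obtain ⟨s, hs⟩ : (⊤ : Submodule R M).FG := Module.Finite.fg_top
  choose k hk using fun m => mem_gam.1 (h m)
  refine ⟨s.sup k, fun a ha m => ?_⟩
  have hm : m ∈ Submodule.span R (s : Set M) := by
    rw [hs]
    trivial
  induction hm using Submodule.span_induction with
  | mem x hx => exact hk x a (Ideal.pow_le_pow_right (Finset.le_sup hx) ha)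
  | zero => rw [map_zero, smul_zero]
  | add x y _ _ hx hy => rw [map_add, smul_add, hx, hy, add_zero]
  | smul r x _ hx => rw [map_smul, smul_comm, hx, smul_zero]

theorem kill_add {N : ModuleCat.{u} R} {φ ψ : M →ₗ[R] N} (hφ : Kill J φ) (hψ : Kill J ψ) : Kill J (φ + ψ) := by
  obtain ⟨k, hk⟩ := hφ
  obtain ⟨l, hl⟩ := hψ
  refine ⟨max k l, fun a ha m => ?_⟩
  rw [LinearMap.add_apply, smul_add, hk a (Ideal.pow_le_pow_right (le_max_left _ _) ha) m,
    hl a (Ideal.pow_le_pow_right (le_max_right _ _) ha) m, add_zero]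

theorem kill_neg {N : ModuleCat.{u} R} {φ : M →ₗ[R] N} (hφ : Kill J φ) : Kill J (-φ) := by
  obtain ⟨k, hk⟩ := hφ
  exact ⟨k, fun a ha m => by rw [LinearMap.neg_apply, smul_neg, hk a ha m, neg_zero]⟩

theorem kill_comp {N N' : ModuleCat.{u} R} {φ : M →ₗ[R] N} (hφ : Kill J φ) (f : N →ₗ[R] N') : Kill J (f ∘ₗ φ) := by
  obtain ⟨k, hk⟩ := hφ
  exact ⟨k, fun a ha m => by rw [LinearMap.comp_apply, ← map_smul, hk a ha m, map_zero]⟩

theorem mem_gam_of_kill {N : ModuleCat.{u} R} {φ : M →ₗ[R] N} (hφ : Kill J φ) (m : M) : φ m ∈ gam J N := by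
  obtain ⟨k, hk⟩ := hφ
  exact ⟨k, fun a ha => hk a ha m⟩

variable [IsNoetherianRing R] [Module.Finite R M]

/-- **Finiteness**: for `0 → M' → M → M'' → 0` with `M'` killed by a power of `J`,
`R^n Γ_J Hom(M, -)(N)` embeds in `Ext^n(M', N)` if `R^n Γ_J Hom(M'', -)(N) = 0`. -/
theorem finite_psi (hM' : ∃ k : ℕ, ∀ a ∈ J ^ k, ∀ m ∈ M', a • m = 0) (N : ModuleCat.{u} R) [Module.Finite R N]
    (n : ℕ) (h : IsZero (((psi (ModuleCat.of R (M ⧸ M')) J).rightDerived n).obj N)) :
    Module.Finite R (((psi M J).rightDerived n).obj N) := by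
  let I := injectiveResolution N
  have hfin : Module.Finite R (((homR (ModuleCat.of R M')).rightDerived n).obj N) := by
    have : Module.Finite R M' := inferInstance
    have : Module.Finite R (Ext.{u} (ModuleCat.of R M') N n) := inferInstance
    exact Module.Finite.equiv (rdExt (ModuleCat.of R M') N n).toLinearEquiv.symm
  let f := (NatTrans.mapHomologicalComplex (resNat M J M') (ComplexShape.up ℕ)).app I.cocomplex
  have hinj : Function.Injective (HomologicalComplex.homologyMap f n) := by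
    refine injective_homologyMap f n ?_
    intro x hx y hxy
    have hx1 : ∀ m, I.cocomplex.d n (n + 1) (val M J x m) = 0 := fun m => by
      rw [← val_map]
      have h1 : (psi M J).map (I.cocomplex.d n (n + 1)) x = 0 := hx
      rw [h1]
      rfl
    have hy1 : ∀ m : M', I.cocomplex.d ((ComplexShape.up ℕ).prev n) n (toL (ModuleCat.of R M') y m) =
        val M J x m := fun m => by
      have h1 : (homR (ModuleCat.of R M')).map (I.cocomplex.d ((ComplexShape.up ℕ).prev n) n) y =
        (resNat M J M').app _ x := hxy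
      rw [← toL_resNat, ← h1]
      rfl
    obtain ⟨k, hk⟩ := hM'
    -- extend `y` to `M`
    let K := gam J (I.cocomplex.X ((ComplexShape.up ℕ).prev n))
    have hK : Module.Injective R K := injective_gam J _
      (Groth.Agent.Localalg.LCAbs.moduleInjective (I.cocomplex.X ((ComplexShape.up ℕ).prev n)))
    let y1 : M' →ₗ[R] K := LinearMap.codRestrict K (toL (ModuleCat.of R M') y) (fun m =>
      ⟨k, fun a ha => by
        rw [← map_smul]
        have h2 : a • m = 0 := Subtype.ext (hk a ha m m.2)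
        rw [h2, map_zero]⟩)
    obtain ⟨y2, hy2⟩ := hK.out M'.subtype Subtype.val_injective y1
    have hψ : Kill J (K.subtype ∘ₗ y2) := kill_of_forall M J _ (fun m => (y2 m).2)
    -- the difference factors through the quotient
    let δ : M →ₗ[R] I.cocomplex.X n :=
      val M J x + -((I.cocomplex.d ((ComplexShape.up ℕ).prev n) n).hom ∘ₗ (K.subtype ∘ₗ y2))
    have hδ : Kill J δ := kill_add M J (kill_val M J x) (kill_neg M J (kill_comp M J hψ _))
    have hle : M' ≤ LinearMap.ker δ := fun m hm => by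
      rw [LinearMap.mem_ker]
      change val M J x m + -(I.cocomplex.d ((ComplexShape.up ℕ).prev n) n (K.subtype (y2 m))) = 0
      have h3 := hy2 ⟨m, hm⟩
      have h4 : K.subtype (y2 m) = toL (ModuleCat.of R M') y ⟨m, hm⟩ := congrArg K.subtype h3
      rw [h4, hy1, add_neg_cancel]
    obtain ⟨ψ, hψ1, hψ2⟩ := (isZero_psi_iff (ModuleCat.of R (M ⧸ M')) J I n).1 h (M'.liftQ δ hle) (by
      obtain ⟨l, hl⟩ := hδ
      refine ⟨l, fun a ha m => ?_⟩
      obtain ⟨m, rfl⟩ := Submodule.mkQ_surjective _ m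
      exact hl a ha m) (fun m => by
        obtain ⟨m, rfl⟩ := Submodule.mkQ_surjective _ m
        change I.cocomplex.d n (n + 1) (val M J x m + -(I.cocomplex.d ((ComplexShape.up ℕ).prev n) n (K.subtype (y2 m)))) = 0
        rw [map_add, map_neg, hx1]
        have h5 := ConcreteCategory.congr_hom (I.cocomplex.d_comp_d ((ComplexShape.up ℕ).prev n) n (n + 1)) (K.subtype (y2 m))
        have h6 : I.cocomplex.d n (n + 1) (I.cocomplex.d ((ComplexShape.up ℕ).prev n) n (K.subtype (y2 m))) = 0 := h5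
        rw [h6, neg_zero, add_zero])
    refine ⟨mk M J (K.subtype ∘ₗ y2 + ψ ∘ₗ M'.mkQ) (kill_add M J hψ ?_), ?_⟩
    · obtain ⟨l, hl⟩ := hψ1
      exact ⟨l, fun a ha m => hl a ha _⟩
    · refine val_ext M J fun m => ?_
      change I.cocomplex.d ((ComplexShape.up ℕ).prev n) n (K.subtype (y2 m) + ψ (M'.mkQ m)) = val M J x m
      have h7 : I.cocomplex.d ((ComplexShape.up ℕ).prev n) n (ψ (M'.mkQ m)) =
        val M J x m + -(I.cocomplex.d ((ComplexShape.up ℕ).prev n) n (K.subtype (y2 m))) := hψ2 _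
      rw [map_add, h7]
      abel
  have h8 : Module.Finite R (((homR (ModuleCat.of R M')).mapHomologicalComplex _).obj I.cocomplex |>.homology n) :=
    Module.Finite.equiv (I.isoRightDerivedObj (homR (ModuleCat.of R M')) n).toLinearEquiv
  have h9 : Module.Finite R (((psi M J).mapHomologicalComplex _).obj I.cocomplex |>.homology n) :=
    Module.Finite.of_injective (HomologicalComplex.homologyMap f n).hom hinj
  have h10 : Module.Finite R ((HomologicalComplex.homologyFunctor (ModuleCat.{u} R) (ComplexShape.up ℕ) n).obj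
        (((psi M J).mapHomologicalComplex (ComplexShape.up ℕ)).obj I.cocomplex)) := h9
  exact Module.Finite.equiv (I.isoRightDerivedObj (psi M J) n).toLinearEquiv.symm

end Fin

end K50.AlgVan
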