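import Groth.Agent.Coherent.K50.HomR
import Groth.Agent.CohSite.K297.RDHom
import Mathlib.Algebra.Homology.Linear
import Mathlib.Algebra.Homology.ShortComplex.Linear
import Mathlib.Algebra.Category.ModuleCat.EnoughInjectives
import Mathlib.Algebra.Category.ModuleCat.Ext.HasExt
import Mathlib.Algebra.Category.ModuleCat.Ext.Finite

/-!
# `R^n Hom_R(M, -) = Ext^n_R(M, -)` as modules
-/

set_option autoImplicit false
universe u

open CategoryTheory CategoryTheory.Limits CategoryTheory.Abelian Opposite

namespace K50.ExtR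

open K50.HomR Groth.Agent.CohtopA.ExtRes Groth.Agent.CohtopA.RDComp

section lin

variable {R : Type u} [CommRing R] {A : Type*} [Category* A] [Abelian A] [Linear R A] [HasInjectiveResolutions A]
variable {B : Type*} [Category* B] [Abelian B] [Linear R B]

theorem homologyMap_smul {K : CochainComplex B ℕ} (r : R) (n : ℕ) :
    HomologicalComplex.homologyMap (r • 𝟙 K) n = r • 𝟙 (K.homology n) := by
  have h := ShortComplex.homologyMap_smul (𝟙 (K.sc n)) r
  refine Eq.trans ?_ (h.trans ?_)
  · rfl
  · rw [ShortComplex.homologyMap_id]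
    rfl

/-- the derived functors of a linear functor respect scalars. -/
theorem rightDerived_smul (F : A ⥤ B) [F.Additive] [Functor.Linear R F] (n : ℕ) (N : A) (r : R) :
    (F.rightDerived n).map (r • 𝟙 N) = r • 𝟙 ((F.rightDerived n).obj N) := by
  have h := Functor.rightDerived_map_eq F n (r • 𝟙 N) (P := injectiveResolution N) (Q := injectiveResolution N)
    (r • 𝟙 _) (by
      ext
      simp only [HomologicalComplex.comp_f, HomologicalComplex.smul_f_apply, Linear.comp_smul,
        Category.comp_id]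
      rw [CochainComplex.single₀_map_f_zero]
      exact ((Linear.smul_comp _ _ _ r (𝟙 N) ((injectiveResolution N).ι.f 0)).trans
        (congrArg (fun t => r • t) (Category.id_comp _))).symm)
  rw [h]
  have h1 : (F.mapHomologicalComplex (ComplexShape.up ℕ)).map (r • 𝟙 (injectiveResolution N).cocomplex) =
      r • 𝟙 _ := by
    rw [Functor.map_smul, CategoryTheory.Functor.map_id]
  have h2 : (F.mapHomologicalComplex (ComplexShape.up ℕ) ⋙ HomologicalComplex.homologyFunctor B (ComplexShape.up ℕ) n).map
          (r • 𝟙 (injectiveResolution N).cocomplex) = r • 𝟙 _ := by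
    refine Eq.trans (congrArg (fun t => (HomologicalComplex.homologyFunctor B (ComplexShape.up ℕ) n).map t) h1) ?_
    exact homologyMap_smul r n
  rw [h2, Linear.smul_comp, Linear.comp_smul]
  refine congrArg (fun t => r • t) ?_
  exact (congrArg (fun t => _ ≫ t) (Category.id_comp _)).trans (Iso.hom_inv_id _)

end lin

variable {R : Type u} [CommRing R] (M : ModuleCat.{u} R)

instance : Functor.Linear R (homR M) where
  map_smul {N N'} f r := by
    apply ModuleCat.hom_ext
    apply LinearMap.ext
    intro φ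
    apply toL_ext
    intro m
    rfl

/-- `Hom_R(M, -)` is `Hom(M, -)`. -/
noncomputable def forIso : homR M ⋙ forget₂ (ModuleCat.{u} R) AddCommGrpCat.{u} ≅ K297.RDHom.homF M :=
  NatIso.ofComponents (fun N => AddEquiv.toAddCommGrpIso
    { toFun := fun φ => ModuleCat.ofHom (toL M φ)
      invFun := fun f => ofL M f.hom
      left_inv := fun _ => rfl
      right_inv := fun _ => rfl
      map_add' := fun _ _ => rfl }) (fun {N N'} g => by
        ext φ
        rfl)

/-- `Ext^n(M, -)` -/
noncomputable abbrev extF (n : ℕ) : ModuleCat.{u} R ⥤ AddCommGrpCat.{u} :=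
  extPsh ((Functor.const (Discrete PUnit.{1})).obj M) n ⋙ (evaluation _ _).obj (op ⟨PUnit.unit⟩)

/-- `R^n Hom(M, -) = Ext^n(M, -)`. -/
noncomputable def rdIso (n : ℕ) : (homR M).rightDerived n ⋙ forget₂ (ModuleCat.{u} R) AddCommGrpCat.{u} ≅ extF M n :=
  (rightDerivedCompIso (homR M) (forget₂ (ModuleCat.{u} R) AddCommGrpCat.{u}) n).symm ≪≫
    rightDerivedCongr (forIso M) n ≪≫ rightDerivedCongr (K297.RDHom.homFIso M) n ≪≫
    rightDerivedCompIso (homPsh ((Functor.const (Discrete PUnit.{1})).obj M)) _ n ≪≫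
    Functor.isoWhiskerRight (rightDerivedIso ((Functor.const (Discrete PUnit.{1})).obj M) n) _

section gen

variable {G : ModuleCat.{u} R ⥤ ModuleCat.{u} R} {n : ℕ}
  (e : G ⋙ forget₂ (ModuleCat.{u} R) AddCommGrpCat.{u} ≅ extF M n)

/-- the underlying additive map. -/
noncomputable def genEquiv (N : ModuleCat.{u} R) : G.obj N ≃+ Ext.{u} M N n :=
  (e.app N).addCommGroupIsoToAddEquiv

theorem genEquiv_map {N N' : ModuleCat.{u} R} (g : N ⟶ N') (x : G.obj N) :
    genEquiv M e N' (G.map g x) = (genEquiv M e N x).comp (Ext.mk₀ g) (add_zero n) :=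
  ConcreteCategory.congr_hom (e.hom.naturality g) x

end gen

/-- the underlying additive map. -/
noncomputable def rdEquiv (N : ModuleCat.{u} R) (n : ℕ) : ((homR M).rightDerived n).obj N ≃+ Ext.{u} M N n :=
  genEquiv M (rdIso M n) N

theorem rdEquiv_map {N N' : ModuleCat.{u} R} (g : N ⟶ N') (n : ℕ) (x : ((homR M).rightDerived n).obj N) :
    rdEquiv M N' n (((homR M).rightDerived n).map g x) = (rdEquiv M N n x).comp (Ext.mk₀ g) (add_zero n) :=
  genEquiv_map M (rdIso M n) g x

theorem comp_smul_id {N : ModuleCat.{u} R} (r : R) (n : ℕ) (x : Ext.{u} M N n) :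
    x.comp (Ext.mk₀ (r • 𝟙 N)) (add_zero n) = r • x := by
  rw [Ext.mk₀_smul, Ext.comp_smul, Ext.comp_mk₀_id]

theorem rdEquiv_smul {N : ModuleCat.{u} R} (n : ℕ) (r : R) (x : ((homR M).rightDerived n).obj N) :
    rdEquiv M N n (r • x) = r • rdEquiv M N n x := by
  rw [← comp_smul_id, ← rdEquiv_map, rightDerived_smul]
  rfl

/-- `R^n Hom_R(M, -)(N) = Ext^n(M, N)` as modules. -/
noncomputable def rdExt (N : ModuleCat.{u} R) (n : ℕ) :
    ((homR M).rightDerived n).obj N ≅ ModuleCat.of R (Ext.{u} M N n) :=
  LinearEquiv.toModuleIso { rdEquiv M N n with map_smul' := rdEquiv_smul M n }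

end K50.ExtR
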