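import Groth.Agent.Coherent.K50.Restr
import Groth.Agent.S0484

/-!
# Local Ext sheaves (with supports) as right derived functors of concrete functors; restriction to opens

* `phi F i = homFunctor F ⋙ gammaZ i`.
* `extShIso`, `extZShIso`: the frozen functors.
* `homDerRes`, `phiDerRes`: compatibility with restriction to open subschemes.
-/

set_option autoImplicit false
universe u

open CategoryTheory CategoryTheory.Limits AlgebraicGeometry Opposite TopologicalSpace

namespace K50.ExtRes

open K50.SectOn K50.Restr Groth.Agent.Dcoh.MonClosed Groth.Agent.CohqA.RpushLoc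

section Abstract

universe v₁ v₂ u₁ u₂

variable {C : Type u₁} {D : Type u₂} [Category.{v₁} C] [Category.{v₂} D] [Abelian C] [Abelian D]
  [HasInjectiveResolutions C]

/-- Isomorphic functors have isomorphic derived functors. -/
noncomputable def derIso {F G : C ⥤ D} [F.Additive] [G.Additive] (e : F ≅ G) (n : ℕ) :
    F.rightDerived n ≅ G.rightDerived n where
  hom := NatTrans.rightDerived e.hom n
  inv := NatTrans.rightDerived e.inv n
  hom_inv_id := by rw [← NatTrans.rightDerived_comp, e.hom_inv_id, NatTrans.rightDerived_id]
  inv_hom_id := by rw [← NatTrans.rightDerived_comp, e.inv_hom_id, NatTrans.rightDerived_id]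

end Abstract

variable {X Y : Scheme.{u}}

theorem hasInjectiveResolutions (X : Scheme.{u}) : HasInjectiveResolutions X.Modules := by
  have : IsGrothendieckAbelian.{u} X.Modules := Groth.Agent.S0484.result _ X.ringCatSheaf
  infer_instance

/-- Sections with support of the sheaf Hom. -/
noncomputable abbrev phi (F : X.Modules) {U : Scheme.{u}} (i : U ⟶ X) [IsOpenImmersion i] : X.Modules ⥤ X.Modules :=
  homFunctor F ⋙ DCoh.gammaZ i

section Frozen

variable (F : X.Modules)

/-- the concrete sheaf Hom, on the category of modules on the ringed site. -/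
noncomputable def homF' : ModSite.Mod (C := X.Opens) (J := Opens.grothendieckTopology X) X.sheaf ⥤
    ModSite.Mod (C := X.Opens) (J := Opens.grothendieckTopology X) X.sheaf := homFunctor F

instance : (homF' F).Additive := inferInstanceAs (homFunctor F).Additive

/-- The frozen Ext sheaves. -/
noncomputable def extShIso [ModSite.HasSheafHom (O := X.sheaf) F]
    [h : HasInjectiveResolutions (ModSite.Mod X.sheaf)] (q : ℕ) :
    ModSite.extSh (O := X.sheaf) F q ≅ @Functor.rightDerived X.Modules _ X.Modules _ _ h _ (homFunctor F) _ q :=
  letI e : ModSite.sheafHom (O := X.sheaf) F ≅ homF' F := SectOn.sheafHomIso F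
  derIso (G := homF' F) e q

/-- the concrete sections with support of the sheaf Hom, on the category of modules on the ringed site. -/
noncomputable def phiF' (U : X.Opens) : ModSite.Mod (C := X.Opens) (J := Opens.grothendieckTopology X) X.sheaf ⥤
    ModSite.Mod (C := X.Opens) (J := Opens.grothendieckTopology X) X.sheaf := phi F U.ι

instance (U : X.Opens) : (phiF' F U).Additive := inferInstanceAs (phi F U.ι).Additive

/-- The frozen Ext sheaves with supports. -/
noncomputable def extZShIso (U : X.Opens) [ModSite.HasSheafHom (O := X.sheaf) F]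
    [h : HasInjectiveResolutions (ModSite.Mod X.sheaf)] (q : ℕ) :
    ModSite.extZSh (O := X.sheaf) U F q ≅
      @Functor.rightDerived X.Modules _ X.Modules _ _ h _ (phi F U.ι) _ q :=
  letI e : ModSite.sheafHom (O := X.sheaf) F ⋙
      ModSite.sectOn (C := X.Opens) (J := Opens.grothendieckTopology X) X.sheaf U ≅ phiF' F U :=
    Functor.isoWhiskerRight (SectOn.sheafHomIso F)
      (ModSite.sectOn (C := X.Opens) (J := Opens.grothendieckTopology X) X.sheaf U) ≪≫
    Functor.isoWhiskerLeft (homFunctor F) (sectOnIso U)
  derIso (G := phiF' F U) e q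

end Frozen

/-- The derived functors of the sheaf Hom commute with restriction. -/
noncomputable def homDerRes (j : Y ⟶ X) [IsOpenImmersion j] (F : X.Modules)
    [HasInjectiveResolutions X.Modules] [HasInjectiveResolutions Y.Modules] (q : ℕ) :
    (homFunctor F).rightDerived q ⋙ Scheme.Modules.restrictFunctor j ≅
      Scheme.Modules.restrictFunctor j ⋙ (homFunctor (F.restrict j)).rightDerived q :=
  Groth.Agent.CohqA.DerComp.compIso (homRes j F) q

/-- Sections with support of the sheaf Hom commute with restriction. -/
noncomputable def phiRes (j : Y ⟶ X) [IsOpenImmersion j] {U U' : Scheme.{u}} (i : U ⟶ X) [IsOpenImmersion i]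
    (i' : U' ⟶ Y) [IsOpenImmersion i'] (h : i'.opensRange = j ⁻¹ᵁ i.opensRange) (F : X.Modules) :
    phi F i ⋙ Scheme.Modules.restrictFunctor j ≅ Scheme.Modules.restrictFunctor j ⋙ phi (F.restrict j) i' :=
  Functor.isoWhiskerLeft (homFunctor F) (gamRes j i i' h) ≪≫
    Functor.isoWhiskerRight (homRes j F) (DCoh.gammaZ i')

/-- The derived functors of sections with support of the sheaf Hom commute with restriction. -/
noncomputable def phiDerRes (j : Y ⟶ X) [IsOpenImmersion j] {U U' : Scheme.{u}} (i : U ⟶ X) [IsOpenImmersion i]
    (i' : U' ⟶ Y) [IsOpenImmersion i'] (h : i'.opensRange = j ⁻¹ᵁ i.opensRange) (F : X.Modules)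
    [HasInjectiveResolutions X.Modules] [HasInjectiveResolutions Y.Modules] (q : ℕ) :
    (phi F i).rightDerived q ⋙ Scheme.Modules.restrictFunctor j ≅
      Scheme.Modules.restrictFunctor j ⋙ (phi (F.restrict j) i').rightDerived q :=
  Groth.Agent.CohqA.DerComp.compIso (phiRes j i i' h F) q

end K50.ExtRes
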