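import Groth.Agent.Coherent.K50.GamInj
import Groth.Agent.Coherent.K50.Restr
import Groth.Agent.PerfC.FlasquePush
import Groth.Agent.Cohder.RDAcyc
import Groth.Agent.CurvesC.KerSec

/-!
# Sections with support: left exactness, flasque modules are acyclic
-/

set_option autoImplicit false
universe u

open CategoryTheory CategoryTheory.Limits AlgebraicGeometry Opposite TopologicalSpace

namespace K50.GamAcyc

open K50.SectOn K50.GamInj Groth.Agent.PerfC.FlasquePush

variable {X Y : Scheme.{u}} (j : Y ⟶ X) [IsOpenImmersion j]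

theorem map_ιG {F G : X.Modules} (φ : F ⟶ G) : (DCoh.gammaZ j).map φ ≫ ιG j G = ιG j F ≫ φ :=
  kernel.lift_ι _ _ _

theorem mono_map {F G : X.Modules} (φ : F ⟶ G) [Mono φ] : Mono ((DCoh.gammaZ j).map φ) := by
  have : Mono ((DCoh.gammaZ j).map φ ≫ ιG j G) := by
    rw [map_ιG]
    exact mono_comp _ _
  exact mono_of_mono _ (ιG j G)

theorem exact_map {S : ShortComplex X.Modules} (hS : S.Exact) [Mono S.f] : (S.map (DCoh.gammaZ j)).Exact := by
  have hk := hS.fIsKernel
  have hmono : Mono ((DCoh.gammaZ j).map S.f) := mono_map j S.f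
  have hl : ∀ {T : X.Modules} (k : T ⟶ (DCoh.gammaZ j).obj S.X₂) (_ : k ≫ (DCoh.gammaZ j).map S.g = 0),
      ∃ l : T ⟶ (DCoh.gammaZ j).obj S.X₁, l ≫ (DCoh.gammaZ j).map S.f = k := by
    intro T k hk0
    have h1 : (k ≫ ιG j S.X₂) ≫ S.g = 0 := by
      rw [Category.assoc, ← map_ιG, ← Category.assoc, hk0, zero_comp]
    have h2 : (Scheme.Modules.restrictFunctor j).map (hS.lift (k ≫ ιG j S.X₂) h1) = 0 := by
      rw [← cancel_mono ((Scheme.Modules.restrictFunctor j).map S.f), ← Functor.map_comp, hS.lift_f, zero_comp]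
      exact restrict_map_comp_ιG j k
    refine ⟨liftG j (hS.lift (k ≫ ιG j S.X₂) h1) h2, ?_⟩
    rw [← cancel_mono (ιG j S.X₂), Category.assoc, map_ιG, ← Category.assoc, liftG_ι, hS.lift_f]
  exact ShortComplex.exact_of_f_is_kernel _ (KernelFork.IsLimit.ofι _ _ (fun {T} k hk0 => (hl k hk0).choose)
    (fun {T} k hk0 => (hl k hk0).choose_spec)
    (fun {T} k hk0 m hm => (cancel_mono ((DCoh.gammaZ j).map S.f)).1 (hm.trans (hl k hk0).choose_spec.symm)))

instance preservesFiniteLimits_gammaZ : PreservesFiniteLimits (DCoh.gammaZ j) := by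
  have := ((DCoh.gammaZ j).preservesFiniteLimits_tfae.out 3 1 :)
  refine this.2 fun S hS => ?_
  have := hS.2
  exact ⟨exact_map j hS.1, mono_map j S.f⟩

/-- `Γ_Z` of a short exact sequence with flasque kernel. -/
theorem shortExact_map {S : ShortComplex X.Modules} (hS : S.ShortExact) (h : IsFlasqueMod S.X₁) :
    (S.map (DCoh.gammaZ j)).ShortExact := by
  have h1 := Groth.Agent.CohqB.ToSheafExact.shortExact_toAb hS
  have h2 : TopCat.Sheaf.IsFlasque (X := X.toTopCat) (S.map (Groth.Agent.CohqB.ToSheafExact.toAbF X)).X₁ := h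
  have h3 : ∀ U : X.Opens, Function.Surjective (S.g.app U) := fun U =>
    (AddCommGrpCat.epi_iff_surjective _).1 (TopCat.Sheaf.IsFlasque.epi_of_shortExact (U := U) h1)
  have hm := hS.mono_f
  refine { exact := exact_map j hS.exact, mono_f := mono_map j S.f, epi_g := ?_ }
  refine Groth.Agent.PerfB.ModExact.epi_of_locally_surjective _ fun V y x hx => ⟨V, le_rfl, hx, ?_⟩
  change Γ((DCoh.gammaZ j).obj S.X₃, V) at y
  let W : X.Opens := V ⊓ j.opensRange
  have hW : W ≤ V := inf_le_left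
  obtain ⟨t, ht⟩ := h3 V ((ιG j S.X₃).app V y)
  have h4 : S.g.app W (S.X₂.presheaf.map (homOfLE hW).op t) = 0 := by
    have e1 : S.g.app W (S.X₂.presheaf.map (homOfLE hW).op t) =
      S.X₃.presheaf.map (homOfLE hW).op (S.g.app V t) := congr($(S.g.mapPresheaf.naturality (homOfLE hW).op) t)
    rw [e1, ht]
    refine (K50.Restr.unit_app_eq_zero_iff j S.X₃ V ((ιG j S.X₃).app V y)).1 ?_
    have e2 : ιG j S.X₃ ≫ (Scheme.Modules.restrictAdjunction j).unit.app S.X₃ = 0 := kernel.condition _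
    exact congrArg (fun ψ : (DCoh.gammaZ j).obj S.X₃ ⟶ _ => ψ.app V y) e2
  have hex : ∀ (U : X.Opens) (z : Γ(S.X₂, U)), S.g.app U z = 0 → ∃ w : Γ(S.X₁, U), S.f.app U w = z := by
    intro U z hz
    have hk := hS.exact.fIsKernel
    exact Groth.Agent.PerfB.ModExact.exists_app_of_isLimit S.f S.g S.zero hk U z hz
  obtain ⟨w, hw⟩ := hex W _ h4
  obtain ⟨v, hv⟩ := (isFlasqueMod_iff S.X₁).1 h W V hW w
  have h5 : S.X₂.presheaf.map (homOfLE hW).op (t - S.f.app V v) = 0 := by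
    have e1 : S.X₂.presheaf.map (homOfLE hW).op (S.f.app V v) =
      S.f.app W (S.X₁.presheaf.map (homOfLE hW).op v) := congr($((S.f.mapPresheaf.naturality (homOfLE hW).op).symm) v)
    rw [map_sub, e1, hv, hw, sub_self]
  have h6 := (K50.Restr.unit_app_eq_zero_iff j S.X₂ V (t - S.f.app V v)).2 h5
  obtain ⟨z, hz⟩ := Groth.Agent.CurvesC.KerSec.exists_kernel_ι_app_eq _ V _ h6
  refine ⟨z, ?_⟩
  have hid : (((DCoh.gammaZ j).obj S.X₃).presheaf.map (homOfLE (le_refl V)).op) y = y :=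
    Groth.Agent.Ega1.QCohLoc.res_rfl _ y
  refine Eq.trans ?_ hid.symm
  apply Groth.Agent.PerfB.ModExact.app_injective_of_mono (ιG j S.X₃) V
  have e3 : (ιG j S.X₃).app V (((DCoh.gammaZ j).map S.g).app V z) = S.g.app V ((ιG j S.X₂).app V z) :=
    congrArg (fun ψ : (DCoh.gammaZ j).obj S.X₂ ⟶ S.X₃ => ψ.app V z) (map_ιG j S.g)
  have e4 : (ιG j S.X₂).app V z = t - S.f.app V v := hz
  have e5 : S.g.app V (S.f.app V v) = 0 :=
    congrArg (fun ψ : S.X₁ ⟶ S.X₃ => ψ.app V v) S.zero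
  refine e3.trans ?_
  rw [e4, map_sub, e5, sub_zero, ht]

/-- Flasque modules are acyclic for sections with support. -/
theorem isAcyc_of_flasque [HasInjectiveResolutions X.Modules] (M : X.Modules) (hM : IsFlasqueMod M) :
    Groth.Agent.Cohder.RDAcyc.IsAcyc (DCoh.gammaZ j) M := by
  intro i hi
  obtain ⟨q, rfl⟩ : ∃ q, i = q + 1 := ⟨i - 1, by omega⟩
  refine Groth.Agent.CohtopA.RDerVanish.isZero_rightDerived_succ_of_class (DCoh.gammaZ j) IsFlasqueMod ?_ hM q
  intro S hS h1 h2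
  refine ⟨?_, shortExact_map j hS h1⟩
  have h3 : TopCat.Sheaf.IsFlasque (X := X.toTopCat) (S.map (Groth.Agent.CohqB.ToSheafExact.toAbF X)).X₁ := h1
  have h4 : TopCat.Sheaf.IsFlasque (X := X.toTopCat) (S.map (Groth.Agent.CohqB.ToSheafExact.toAbF X)).X₂ :=
    Groth.Agent.Ega3B.InjMod.isFlasque_of_injective S.X₂
  exact TopCat.Sheaf.IsFlasque.of_shortExact_of_isFlasque₁₂ (Groth.Agent.CohqB.ToSheafExact.shortExact_toAb hS)

end K50.GamAcyc
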