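import Groth.Agent.Coherent.K50.SectOn
import Groth.Agent.PerfC.ExtZero2
import Groth.Agent.PerfB.ModExact
import Mathlib.CategoryTheory.Abelian.CommSq

/-!
# Sections with support of an injective module are injective
-/

set_option autoImplicit false
universe u

open CategoryTheory CategoryTheory.Limits AlgebraicGeometry Opposite TopologicalSpace

namespace K50.GamInj

open K50.SectOn Groth.Agent.PerfC.ExtZero

variable {X Y : Scheme.{u}} (j : Y ⟶ X) [IsOpenImmersion j]

/-- Lifting to the sections with support. -/
noncomputable def liftG {A N : X.Modules} (f : A ⟶ N) (h : (Scheme.Modules.restrictFunctor j).map f = 0) :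
    A ⟶ (DCoh.gammaZ j).obj N :=
  kernel.lift ((Scheme.Modules.restrictAdjunction j).unit.app N) f
    ((comp_unit_eq_zero_iff (Scheme.Modules.restrictAdjunction j) f).2 h)

theorem liftG_ι {A N : X.Modules} (f : A ⟶ N) (h : (Scheme.Modules.restrictFunctor j).map f = 0) :
    liftG j f h ≫ ιG j N = f := kernel.lift_ι _ _ _

theorem restrict_map_ιG (N : X.Modules) : (Scheme.Modules.restrictFunctor j).map (ιG j N) = 0 :=
  (comp_unit_eq_zero_iff (Scheme.Modules.restrictAdjunction j) (ιG j N)).1 (kernel.condition _)

theorem restrict_map_comp_ιG {A N : X.Modules} (f : A ⟶ (DCoh.gammaZ j).obj N) :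
    (Scheme.Modules.restrictFunctor j).map (f ≫ ιG j N) = 0 := by
  rw [Functor.map_comp, restrict_map_ιG, comp_zero]

variable (U : X.Opens)

theorem isPullback_incl {A B : X.Modules} (a : A ⟶ B) [Mono a] :
    IsPullback (incl U A) ((TF U).map a) a (incl U B) := by
  refine ⟨⟨(TF_map_incl U a).symm⟩, ⟨PullbackCone.IsLimit.mk _ (fun s => lift s.fst ?_) ?_ ?_ ?_⟩⟩
  · intro V x v hv hvU
    have h1 : a.app V (s.fst.app V x) = (incl U B).app V (s.snd.app V x) :=
      congrArg (fun ψ : s.pt ⟶ B => ψ.app V x) s.condition
    obtain ⟨W, hW, hvW, e⟩ := incl_app_mem U B V (s.snd.app V x) v hv hvU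
    refine ⟨W, hW, hvW, ?_⟩
    apply Groth.Agent.PerfB.ModExact.app_injective_of_mono a W
    rw [← app_map a hW]
    refine Eq.trans ?_ (map_zero _).symm
    rw [h1]
    exact e
  · intro s
    exact lift_incl _ _
  · intro s
    refine (cancel_mono (incl U B)).1 ?_
    refine (Category.assoc _ _ _).trans ((congrArg (_ ≫ ·) (TF_map_incl U a)).trans ?_)
    exact (lift_incl_assoc _ _ _).trans s.condition
  · intro s m h1 h2
    rw [← cancel_mono (incl U A), h1, lift_incl]

/-- Sections with support of an injective module are injective. -/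
theorem injective_gammaZ (J : X.Modules) [Injective J] : Injective ((DCoh.gammaZ j).obj J) where
  factors {A B} f a _ := by
    let U := j.opensRange
    let f' : A ⟶ J := f ≫ ιG j J
    have hf' : (Scheme.Modules.restrictFunctor j).map f' = 0 := restrict_map_comp_ιG j f
    have h1 : incl U A ≫ f' = 0 := by
      refine hom_ext_of_suppIn j (suppIn_T U A) _ _ ?_
      rw [Functor.map_comp, hf', comp_zero, Functor.map_zero]
    have sq := isPullback_incl U a
    have hm : Mono (cokernel.map (incl U A) (incl U B) ((TF U).map a) a sq.w) :=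
      Abelian.mono_cokernel_map_of_isPullback sq
    let g : cokernel (incl U B) ⟶ J := Injective.factorThru (cokernel.desc (incl U A) f' h1)
      (cokernel.map (incl U A) (incl U B) ((TF U).map a) a sq.w)
    have hg : cokernel.map (incl U A) (incl U B) ((TF U).map a) a sq.w ≫ g =
      cokernel.desc (incl U A) f' h1 := Injective.comp_factorThru _ _
    have hq : (Scheme.Modules.restrictFunctor j).map (cokernel.π (incl U B)) = 0 := by
      have h2 : (Scheme.Modules.restrictFunctor j).map (incl U B) ≫
        (Scheme.Modules.restrictFunctor j).map (cokernel.π (incl U B)) = 0 := by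
        rw [← Functor.map_comp, cokernel.condition, Functor.map_zero]
      have : IsIso ((Scheme.Modules.restrictFunctor j).map (incl U B)) := isIso_restrict_incl j B
      exact (cancel_epi ((Scheme.Modules.restrictFunctor j).map (incl U B))).1 (h2.trans comp_zero.symm)
    refine ⟨liftG j (cokernel.π (incl U B) ≫ g) ?_, ?_⟩
    · rw [Functor.map_comp, hq, zero_comp]
    · rw [← cancel_mono (ιG j J), Category.assoc, liftG_ι]
      have h3 : a ≫ cokernel.π (incl U B) = cokernel.π (incl U A) ≫
        cokernel.map (incl U A) (incl U B) ((TF U).map a) a sq.w := (cokernel.π_desc _ _ _).symm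
      rw [← Category.assoc, h3, Category.assoc, hg, cokernel.π_desc]

end K50.GamInj
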