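import Groth.Agent.Coherent.K50.Restr
import Groth.Agent.PerfA.QCohSerre
import Groth.Agent.Ega1.QcqsPush
import Groth.Agent.Ega1.QCohLoc
import Groth.Agent.CurvesC.KerSec

/-!
# Sections with support of a quasi-coherent module
-/

set_option autoImplicit false
universe u

open CategoryTheory CategoryTheory.Limits AlgebraicGeometry Opposite TopologicalSpace

namespace K50.GamQC

open K50.SectOn K50.Restr Groth.Agent.Ega1.QCohLoc

variable {U X : Scheme.{u}} (j : U ⟶ X) [IsOpenImmersion j]

/-- Sections with support of a quasi-coherent module form a quasi-coherent module. -/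
theorem isQCoh_gammaZ [QuasiCompact j] (F : X.Modules) (hF : Coh.IsQCoh F) :
    Coh.IsQCoh ((DCoh.gammaZ j).obj F) := by
  have h1 : Coh.IsQCoh ((Scheme.Modules.restrictFunctor j).obj F) := by
    have := hF
    exact isQCoh_restrict F j
  have h2 : Coh.IsQCoh ((Scheme.Modules.pushforward j).obj ((Scheme.Modules.restrictFunctor j).obj F)) :=
    Groth.Agent.Ega1.QcqsPush.isQCoh_pushforward j _ h1
  exact Groth.Agent.PerfA.QCohSerre.isQCoh_kernel ((Scheme.Modules.restrictAdjunction j).unit.app F) hF h2

theorem ιG_app_injective (F : X.Modules) (V : X.Opens) : Function.Injective ((ιG j F).app V) :=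
  Groth.Agent.CurvesC.KerSec.kernel_ι_app_injective _ V

/-- A section over `V` comes from the sections with support iff it vanishes off the support. -/
theorem mem_range_iff (F : X.Modules) (V : X.Opens) (s : Γ(F, V)) :
    s ∈ Set.range ((ιG j F).app V) ↔ F.presheaf.map (homOfLE (inf_le_left : V ⊓ j.opensRange ≤ V)).op s = 0 := by
  rw [← unit_app_eq_zero_iff j F V s]
  constructor
  · rintro ⟨t, rfl⟩
    have h1 : ιG j F ≫ (Scheme.Modules.restrictAdjunction j).unit.app F = 0 := kernel.condition _
    exact congrArg (fun ψ : (DCoh.gammaZ j).obj F ⟶ _ => ψ.app V t) h1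
  · intro h
    exact Groth.Agent.CurvesC.KerSec.exists_kernel_ι_app_eq _ V s h

/-- A section of a quasi-coherent module over an affine open has support in `Z` iff it is killed by a power of
an ideal defining `Z`. -/
theorem mem_range_iff_pow (F : X.Modules) (hF : Coh.IsQCoh F) (V : X.Opens) (hV : IsAffineOpen V)
    (I : Ideal Γ(X, V)) (hI : I.FG)
    (hZ : ∀ x : X, x ∈ V → (x ∉ Set.range j.base ↔ ∀ f ∈ I, x ∉ X.basicOpen (f : Γ(X, V)))) (s : Γ(F, V)) :
    s ∈ Set.range ((ιG j F).app V) ↔ ∃ n : ℕ, ∀ a ∈ I ^ n, a • s = 0 := by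
  rw [mem_range_iff]
  change res F (inf_le_left : V ⊓ j.opensRange ≤ V) s = 0 ↔ _
  constructor
  · intro h
    let A : Ideal Γ(X, V) :=
      { carrier := {a | a • s = 0}
        add_mem' := fun {a b} ha hb => by
          change (a + b) • s = 0
          rw [add_smul, show a • s = 0 from ha, show b • s = 0 from hb, add_zero]
        zero_mem' := zero_smul _ _
        smul_mem' := fun c a ha => by
          change (c • a) • s = 0
          rw [smul_eq_mul, mul_smul, show a • s = 0 from ha, smul_zero] }
    have hIA : I ≤ A.radical := by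
      intro f hf
      have hle : X.basicOpen f ≤ V ⊓ j.opensRange := by
        intro x hx
        refine ⟨X.basicOpen_le _ hx, ?_⟩
        by_contra h
        exact (hZ x (X.basicOpen_le _ hx)).1 h f hf hx
      have h0 : res F (X.basicOpen_le f) s = 0 := by
        rw [← res_res F inf_le_left hle, h, map_zero]
      exact (isLocAt_of_isQCoh hF hV f).inj s h0
    obtain ⟨n, hn⟩ := Ideal.exists_pow_le_of_le_radical_of_fg hIA hI
    exact ⟨n, fun a ha => hn ha⟩
  · rintro ⟨n, hn⟩
    refine eq_of_locally_eq F (ι := I) (fun f => X.basicOpen (f : Γ(X, V))) (V ⊓ j.opensRange) ?_ ?_ _ _ ?_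
    · intro f x hx
      refine ⟨X.basicOpen_le _ hx, ?_⟩
      by_contra h
      exact (hZ x (X.basicOpen_le _ hx)).1 h f.1 f.2 hx
    · intro x hx
      by_contra h
      refine (hZ x hx.1).2 (fun f hf hxf => h ?_) hx.2
      exact Opens.mem_iSup.2 ⟨⟨f, hf⟩, hxf⟩
    · rintro ⟨f, hf⟩
      rw [map_zero, res_res]
      have h1 : res F (X.basicOpen_le f) (f ^ n • s) = 0 := by
        rw [hn _ (Ideal.pow_mem_pow hf n), map_zero]
      rw [res_smul, map_pow] at h1
      have h2 : IsUnit (resO (X.basicOpen_le f) f) := RingedSpace.isUnit_res_basicOpen _ f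
      exact (h2.pow n).smul_eq_zero.1 h1

end K50.GamQC
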