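import Groth.Agent.Coherent.K50.Local
import Groth.Agent.Sga2lef.H94.StalkDepth

/-!
# Points, stalks, supports and depth on a chart
-/

set_option autoImplicit false
universe u

open CategoryTheory CategoryTheory.Limits AlgebraicGeometry Opposite TopologicalSpace

namespace K50.Geo

open K50.TF K50.Local Groth.Agent Groth.Agent.Sga2lef.H94.StalkDepth

variable {X : Scheme.{u}} {R : CommRingCat.{u}} (j : Spec R ⟶ X) [IsOpenImmersion j]

/-- The ideal of a point of `Spec R`. -/
abbrev px (p : Spec R) : Ideal R := PerfC.TildeStalk.px p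

/-- A point of `Spec R` as a prime. -/
abbrev pt (p : Spec R) : PrimeSpectrum R := p

theorem mem_support_iff (F : X.Modules) (hF : Coh.IsQCoh F) (p : Spec R) :
    j p ∈ CohB1.support F ↔ pt p ∈ Module.support R (mod j F) := by
  have h1 : Subsingleton (F.presheaf.stalk (j p)) ↔ Subsingleton ((F.restrict j).presheaf.stalk p) :=
    (Dcoh.StalkRestrict.ρ j F p).symm.toEquiv.subsingleton_congr
  have h2 : Subsingleton (((tF R).obj (mod j F)).presheaf.stalk p) ↔
      Subsingleton ((F.restrict j).presheaf.stalk p) :=
    (Groth.Agent.Fdesc.Skyscraper.stalkIso (modIso j F hF) p).toEquiv.subsingleton_congr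
  have h3 : Subsingleton (((tF R).obj (mod j F)).presheaf.stalk p) ↔
      Subsingleton (LocalizedModule (px p).primeCompl (mod j F)) := by
    have := PerfC.TildeStalk.isLocalizedModule_toSt p (mod j F)
    exact (IsLocalizedModule.iso (px p).primeCompl (PerfC.TildeStalk.toSt p (mod j F)).hom).symm.toEquiv.subsingleton_congr
  change ¬ Subsingleton (F.presheaf.stalk (j p)) ↔ _
  refine Iff.trans ?_ (Module.mem_support_iff (p := pt p)).symm
  rw [h1, ← h2, h3, not_subsingleton_iff_nontrivial]

theorem depth_eq (G : X.Modules) (hG : Coh.IsQCoh G) (p : Spec R) :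
    LocCoh.depth (X.presheaf.stalk (j p)) (G.presheaf.stalk (j p)) =
      LocCoh.depth (Localization.AtPrime (px p)) (LocalizedModule (px p).primeCompl (mod j G)) :=
  (depth_restrict_stalk j G p).symm.trans ((depth_stalk_iso (modIso j G hG) p).symm.trans
    (depth_tilde_stalk R (mod j G) p))

/-- The stalk at a point of a chart. -/
noncomputable def stalkEquiv (p : Spec R) : X.presheaf.stalk (j p) ≃+* Localization.AtPrime (px p) :=
  (Dcoh.StalkRestrict.stalkEquiv j p).trans
    (letI := (PerfC.TildeStalk.alpha p).toAlgebra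
     haveI := PerfC.TildeStalk.isLocalization_alpha p
     (IsLocalization.algEquiv (px p).primeCompl ((Spec R).presheaf.stalk p) (Localization.AtPrime (px p))).toRingEquiv)

theorem ringKrullDim_stalk (p : Spec R) :
    ringKrullDim (X.presheaf.stalk (j p)) = ((px p).height : WithBot ℕ∞) :=
  (ringKrullDim_eq_of_ringEquiv (stalkEquiv j p)).trans
    (IsLocalization.AtPrime.ringKrullDim_eq_height (px p) (Localization.AtPrime (px p)))

theorem isRegular (p : Spec R) (h : IsRegularLocalRing (X.presheaf.stalk (j p))) :
    IsRegularLocalRing (Localization.AtPrime (px p)) :=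
  IsRegularLocalRing.of_ringEquiv (stalkEquiv j p)

omit [IsOpenImmersion j] in
theorem idl_le_iff (U : X.Opens) (p : Spec R) : idl j U ≤ px p ↔ j p ∉ (U : Set X) := by
  have := isComplV_idl j U p
  constructor
  · intro h hp
    exact (this.1 hp) h
  · intro h
    by_contra h2
    exact h (this.2 h2)

end K50.Geo
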