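import Mathlib.AlgebraicGeometry.Modules.Tilde
import Groth.Agent.PerfA.QCohExt
import Groth.Agent.PerfA.TildeRes

/-!
# The functor `M ↦ M~` with values in `(Spec R).Modules`

Mathlib's `tilde.functor R` takes values in `(Spec (.of R)).Modules`; the functor `tF R` is the same with the
types normalised (this avoids expensive unification).
-/

set_option autoImplicit false
universe u

open CategoryTheory CategoryTheory.Limits AlgebraicGeometry Opposite TopologicalSpace

namespace K50.TF

variable (R : CommRingCat.{u})

/-- `M ↦ M~`. -/
noncomputable def tF : ModuleCat.{u} R ⥤ (Spec R).Modules where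
  obj M := tilde M
  map f := tilde.map f
  map_id M := (tilde.functor R).map_id M
  map_comp f g := (tilde.functor R).map_comp f g

/-- Global sections. -/
noncomputable def gF : (Spec R).Modules ⥤ ModuleCat.{u} R where
  obj M := (moduleSpecΓFunctor (R := R)).obj M
  map f := (moduleSpecΓFunctor (R := R)).map f
  map_id M := (moduleSpecΓFunctor (R := R)).map_id M
  map_comp f g := (moduleSpecΓFunctor (R := R)).map_comp f g

noncomputable def adj : tF R ⊣ gF R := tilde.adjunction (R := R)

noncomputable instance : (tF R).IsLeftAdjoint := (adj R).isLeftAdjoint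

noncomputable instance : (gF R).IsRightAdjoint := (adj R).isRightAdjoint

instance : (tF R).Full := (inferInstance : (tilde.functor R).Full)

instance : (tF R).Faithful := (inferInstance : (tilde.functor R).Faithful)

instance : (tF R).Additive := (inferInstance : (tilde.functor R).Additive)

instance : PreservesFiniteLimits (tF R) := (inferInstance : PreservesFiniteLimits (tilde.functor R))

instance : PreservesFiniteColimits (tF R) :=
  have : PreservesColimits (tF R) := (adj R).leftAdjoint_preservesColimits
  PreservesColimits.preservesFiniteColimits _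

instance : PreservesLimits (gF R) := (adj R).rightAdjoint_preservesLimits

instance : (gF R).Additive := Functor.additive_of_preserves_binary_products _

/-- The counit. -/
noncomputable def cou : gF R ⋙ tF R ⟶ 𝟭 (Spec R).Modules := (adj R).counit

theorem isIso_cou_iff (M : (Spec R).Modules) : IsIso ((cou R).app M) ↔ Coh.IsQCoh M :=
  Groth.Agent.PerfA.QCohExt.isIso_counitΓ_iff R M

variable {R}

theorem isQCoh_obj (N : ModuleCat.{u} R) : Coh.IsQCoh ((tF R).obj N) :=
  inferInstanceAs ((tilde N).IsQuasicoherent)

theorem isFinLocFree_obj (M : ModuleCat.{u} R) [Module.Finite R M] [Module.Free R M] :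
    FlatMod.IsFinLocFree ((tF R).obj M) :=
  Groth.Agent.PerfA.TildeRes.isFinLocFree_tilde_of_free M

theorem shortExact {S : ShortComplex (ModuleCat.{u} R)} (hS : S.ShortExact) :
    (S.map (tF R)).ShortExact := hS.map_of_exact _

theorem epi_of_surjective_top {A B : (Spec R).Modules} (hA : Coh.IsQCoh A) (hB : Coh.IsQCoh B) (φ : A ⟶ B)
    (h : Function.Surjective (φ.app ⊤)) : Epi φ := by
  have h1 : Epi ((gF R).map φ) := by
    rw [ModuleCat.epi_iff_surjective]
    exact h
  have h3 : Epi ((tF R).map ((gF R).map φ)) := inferInstance
  have h4 : IsIso ((cou R).app A) := (isIso_cou_iff R A).2 hA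
  have h5 : IsIso ((cou R).app B) := (isIso_cou_iff R B).2 hB
  have h6 := (cou R).naturality φ
  have h7 : Epi ((cou R).app A ≫ φ) := by
    refine (congrArg Epi h6.symm).mpr ?_
    exact epi_comp' h3 inferInstance
  exact epi_of_epi ((cou R).app A) φ

/-- The global section of `N~` given by an element of `N`. -/
noncomputable def sec {N : ModuleCat.{u} R} (x : N) : Γ((tF R).obj N, ⊤) := (tilde.toOpen N ⊤).hom x

theorem sec_add {N : ModuleCat.{u} R} (x y : N) : sec (x + y) = sec x + sec y := map_add (tilde.toOpen N ⊤).hom x y

theorem sec_zero {N : ModuleCat.{u} R} : sec (0 : N) = 0 := map_zero (tilde.toOpen N ⊤).hom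

theorem sec_smul {N : ModuleCat.{u} R} (r : R) (x : N) : sec (r • x) = r • sec x :=
  map_smul (tilde.toOpen N ⊤).hom r x

/-- `sec` as a linear map. -/
noncomputable def secL (N : ModuleCat.{u} R) : N →ₗ[R] Γ((tF R).obj N, ⊤) where
  toFun := sec
  map_add' := sec_add
  map_smul' := sec_smul

theorem sec_bijective (N : ModuleCat.{u} R) : Function.Bijective (sec (N := N)) :=
  ConcreteCategory.bijective_of_isIso (tilde.toOpen N ⊤)

theorem map_sec {M N : ModuleCat.{u} R} (f : M ⟶ N) (x : M) :
    ((tF R).map f).app ⊤ (sec x) = sec (f x) :=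
  congr($(tilde.toOpen_map_app f ⊤).hom x)

/-- Morphisms out of `M~` are determined by their values on elements of `M`. -/
theorem tilde_ext {M : ModuleCat.{u} R} {F : (Spec R).Modules} (f g : (tF R).obj M ⟶ F)
    (h : ∀ m : M, f.app ⊤ (sec m) = g.app ⊤ (sec m)) : f = g := by
  apply ((tilde.adjunction (R := R)).homEquiv M F).injective
  refine ((tilde.adjunction (R := R)).homEquiv_unit _ _ f).trans
    (Eq.trans ?_ ((tilde.adjunction (R := R)).homEquiv_unit _ _ g).symm)
  ext m
  exact h m

end K50.TF
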