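import Groth.Agent.Coherent.K50.HomInj
import Groth.Agent.Dcoh.MonAdj
import Groth.Agent.Dcoh.DualFLF
import Groth.Agent.Sga4h.FunLES
import Groth.Agent.Cohder.RDAcyc
import Groth.Agent.Coherent.K50.TF
import Groth.Agent.CohqB.HomSheafCoh
import Groth.Agent.Ega1.ExtendAff2

/-!
# Acyclicity for the sheaf Hom

* `exact_homFunctor`: the sheaf Hom out of a finite locally free module is exact.
* `homPreNat`: functoriality in the first variable; long exact sequence.
* `isAcyc_tilde`: `I~` is acyclic for `Hom(M~, -)`, `M` finite over the Noetherian ring `R`, `I` injective.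
-/

set_option autoImplicit false
universe u

open CategoryTheory CategoryTheory.Limits AlgebraicGeometry Opposite TopologicalSpace MonoidalCategory

namespace K50.HomAcyc

open K50.SectOn K50.HomInj K50.TF Groth.Agent.Dcoh.MonClosed Groth.Agent.CohqB.HomSheaf
open Groth.Agent.Cohder.RDAcyc
open scoped Groth.Agent.Dcoh.MonCat

variable {X : Scheme.{u}}

/-- The sheaf Hom out of a finite locally free module is right exact. -/
theorem preservesFiniteColimits_homFunctor {E : X.Modules} (hE : FlatMod.IsFinLocFree E) :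
    PreservesFiniteColimits (homFunctor E) := by
  obtain ⟨E', ⟨p⟩⟩ := Groth.Agent.Dcoh.DualFLF.exists_exactPairing hE
  let := p
  obtain ⟨e⟩ := Groth.Agent.Dcoh.MonAdj.nonempty_dual (K := E) E' ⟨Iso.refl _⟩ (tensorRightHomAdj E)
  have h1 : PreservesColimits (tensorRight E') := (tensorRightHomAdj E').leftAdjoint_preservesColimits
  have h2 : PreservesFiniteColimits (tensorRight E') := PreservesColimits.preservesFiniteColimits _
  exact preservesFiniteColimits_of_natIso e

/-- Every module is acyclic for the sheaf Hom out of a finite locally free module. -/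
theorem isAcyc_of_flf [HasInjectiveResolutions X.Modules] {E : X.Modules} (hE : FlatMod.IsFinLocFree E)
    (N : X.Modules) : IsAcyc (homFunctor E) N := by
  intro i hi
  obtain ⟨n, rfl⟩ : ∃ n, i = n + 1 := ⟨i - 1, by omega⟩
  have := preservesFiniteColimits_homFunctor hE
  exact Groth.Agent.Sga4h.FunLES.isZero_rightDerived_of_exact (homFunctor E) N n

/-- Functoriality of the sheaf Hom in the first variable. -/
noncomputable def homPreNat {M M' : X.Modules} (f : M' ⟶ M) : homFunctor M ⟶ homFunctor M' where
  app N := homPre f N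
  naturality _ _ _ := rfl

theorem homPreNat_comp_eq_zero (S : ShortComplex X.Modules) (N : X.Modules) :
    (homPreNat S.g).app N ≫ (homPreNat S.f).app N = 0 := by
  change homPre S.g N ≫ homPre S.f N = 0
  rw [homPre_comp, S.zero, homPre_zero]

theorem shortExact_homPreNat {S : ShortComplex X.Modules} (hS : S.ShortExact) (J : X.Modules) (hJ : Injective J) :
    (ShortComplex.mk ((homPreNat S.g).app J) ((homPreNat S.f).app J) (homPreNat_comp_eq_zero S J)).ShortExact :=
  shortExact_homSC hS J

/-- Dimension shifting in the first variable, degree one. -/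
theorem isZero_one [HasInjectiveResolutions X.Modules] {S : ShortComplex X.Modules} (hS : S.ShortExact)
    (N : X.Modules) (h : IsZero (((homFunctor S.X₂).rightDerived 1).obj N)) (he : Epi (homPre S.f N)) :
    IsZero (((homFunctor S.X₃).rightDerived 1).obj N) := by
  have h1 := Groth.Agent.Sga4h.FunLES.epi_δ₀ (homPreNat S.g) (homPreNat S.f) (homPreNat_comp_eq_zero S)
    (shortExact_homPreNat hS) N h
  have h2 := Groth.Agent.Sga4h.FunLES.comp_δ₀ (homPreNat S.g) (homPreNat S.f) (homPreNat_comp_eq_zero S)
    (shortExact_homPreNat hS) N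
  have he' : Epi ((homPreNat S.f).app N) := he
  have h3 : Groth.Agent.Sga4h.FunLES.δ₀ (homPreNat S.g) (homPreNat S.f) (homPreNat_comp_eq_zero S)
    (shortExact_homPreNat hS) N = 0 := (cancel_epi ((homPreNat S.f).app N)).1 (h2.trans comp_zero.symm)
  rw [IsZero.iff_id_eq_zero]
  refine (cancel_epi (Groth.Agent.Sga4h.FunLES.δ₀ (homPreNat S.g) (homPreNat S.f) (homPreNat_comp_eq_zero S)
    (shortExact_homPreNat hS) N)).1 ?_
  rw [Category.comp_id, CategoryTheory.Limits.comp_zero, h3]

/-- Dimension shifting in the first variable. -/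
theorem isZero_succ [HasInjectiveResolutions X.Modules] {S : ShortComplex X.Modules} (hS : S.ShortExact)
    (N : X.Modules) (n : ℕ) (h : IsZero (((homFunctor S.X₂).rightDerived (n + 1)).obj N))
    (h' : IsZero (((homFunctor S.X₁).rightDerived n).obj N)) :
    IsZero (((homFunctor S.X₃).rightDerived (n + 1)).obj N) :=
  (Groth.Agent.Sga4h.FunLES.exact₁ (homPreNat S.g) (homPreNat S.f) (homPreNat_comp_eq_zero S)
    (shortExact_homPreNat hS) N n).isZero_of_both_zeros (h'.eq_of_src _ _) (h.eq_of_tgt _ _)

section Tilde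

variable {R : CommRingCat.{u}}

variable [IsNoetherianRing R]

theorem isQCoh_hom_tilde (M : ModuleCat.{u} R) [Module.Finite R M] (N : (Spec R).Modules) (hN : Coh.IsQCoh N) :
    Coh.IsQCoh (homSheaf ((tF R).obj M) N) := by
  have h1 : Coh.IsCoh (tilde M) := Groth.Agent.Ega1.ExtendAff2.isCoh_tilde M
  exact isQCoh_homSheaf h1.1 hN fun U hU => finitePresentation_of_isCoh h1 hU

/-- The sheaf Hom of quasi-coherent modules into `I~`, `I` injective. -/
theorem epi_homPre_tilde {M P I : ModuleCat.{u} R} (f : M ⟶ P) [Mono f] [Injective I] [Module.Finite R M]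
    [Module.Finite R P] : Epi (homPre ((tF R).map f) ((tF R).obj I)) := by
  refine epi_of_surjective_top (isQCoh_hom_tilde P _ (isQCoh_obj I)) (isQCoh_hom_tilde M _ (isQCoh_obj I)) _ ?_
  intro s
  obtain ⟨φ, hφ⟩ := (topEquiv ((tF R).obj M) ((tF R).obj I)).symm.surjective s
  obtain ⟨g, rfl⟩ := (tF R).map_surjective φ
  refine ⟨ofHom ((tF R).map (Injective.factorThru g f)) ⊤, ?_⟩
  rw [homPre_ofHom, ← Functor.map_comp, Injective.comp_factorThru]
  exact hφ

/-- A finite presentation of a finite module, as a short exact sequence. -/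
theorem exists_ses (M : ModuleCat.{u} R) [Module.Finite R M] :
    ∃ (S : ShortComplex (ModuleCat.{u} R)), S.ShortExact ∧ S.X₃ = M ∧ Module.Finite R S.X₁ ∧
      Module.Finite R S.X₂ ∧ Module.Free R S.X₂ := by
  obtain ⟨k, p, hp⟩ := Module.Finite.exists_fin' R M
  refine ⟨p.shortComplexKer, LinearMap.shortExact_shortComplexKer hp, rfl, ?_, ?_, ?_⟩
  · exact inferInstanceAs (Module.Finite R (LinearMap.ker p))
  · exact inferInstanceAs (Module.Finite R (Fin k → R))
  · exact inferInstanceAs (Module.Free R (Fin k → R))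

omit [IsNoetherianRing R] in
theorem isZero_one_tilde [HasInjectiveResolutions (Spec R).Modules] {S : ShortComplex (ModuleCat.{u} R)}
    (hS : S.ShortExact) (N : (Spec R).Modules)
    (h : IsZero (((homFunctor ((tF R).obj S.X₂)).rightDerived 1).obj N))
    (he : Epi (homPre ((tF R).map S.f) N)) :
    IsZero (((homFunctor ((tF R).obj S.X₃)).rightDerived 1).obj N) :=
  isZero_one (TF.shortExact hS) N h he

omit [IsNoetherianRing R] in
theorem isZero_succ_tilde [HasInjectiveResolutions (Spec R).Modules] {S : ShortComplex (ModuleCat.{u} R)}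
    (hS : S.ShortExact) (N : (Spec R).Modules) (n : ℕ)
    (h : IsZero (((homFunctor ((tF R).obj S.X₂)).rightDerived (n + 1)).obj N))
    (h' : IsZero (((homFunctor ((tF R).obj S.X₁)).rightDerived n).obj N)) :
    IsZero (((homFunctor ((tF R).obj S.X₃)).rightDerived (n + 1)).obj N) :=
  isZero_succ (TF.shortExact hS) N n h h'

omit [IsNoetherianRing R] in
theorem isAcyc_free [HasInjectiveResolutions (Spec R).Modules] (M : ModuleCat.{u} R) [Module.Finite R M]
    [Module.Free R M] (N : (Spec R).Modules) (n : ℕ) :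
    IsZero (((homFunctor ((tF R).obj M)).rightDerived (n + 1)).obj N) :=
  isAcyc_of_flf (isFinLocFree_obj M) N (n + 1) n.succ_pos

/-- `I~` is acyclic for `Hom(M~, -)`. -/
theorem isZero_tilde [HasInjectiveResolutions (Spec R).Modules] (I : ModuleCat.{u} R) [Injective I] (n : ℕ) :
    ∀ (M : ModuleCat.{u} R) [Module.Finite R M],
      IsZero (((homFunctor ((tF R).obj M)).rightDerived (n + 1)).obj ((tF R).obj I)) := by
  induction n with
  | zero =>
    intro M _
    obtain ⟨S, hS, rfl, h1, h2, h3⟩ := exists_ses M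
    have hm := hS.mono_f
    exact isZero_one_tilde hS _ (isAcyc_free S.X₂ _ 0) (epi_homPre_tilde S.f)
  | succ n ih =>
    intro M _
    obtain ⟨S, hS, rfl, h1, h2, h3⟩ := exists_ses M
    exact isZero_succ_tilde hS _ _ (isAcyc_free S.X₂ _ (n + 1)) (ih S.X₁)

theorem isAcyc_tilde [HasInjectiveResolutions (Spec R).Modules] (I : ModuleCat.{u} R) [Injective I]
    (M : ModuleCat.{u} R) [Module.Finite R M] :
    IsAcyc (homFunctor ((tF R).obj M)) ((tF R).obj I) := by
  intro i hi
  obtain ⟨n, rfl⟩ : ∃ n, i = n + 1 := ⟨i - 1, by omega⟩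
  exact isZero_tilde I n M

end Tilde

/-- The sheaf Hom depends on the first variable only up to isomorphism. -/
noncomputable def homCongr {M M' : X.Modules} (e : M ≅ M') : homFunctor M ≅ homFunctor M' where
  hom := homPreNat e.inv
  inv := homPreNat e.hom
  hom_inv_id := by
    ext N : 2
    change homPre e.inv N ≫ homPre e.hom N = 𝟙 _
    rw [homPre_comp, e.hom_inv_id]
    rfl
  inv_hom_id := by
    ext N : 2
    change homPre e.hom N ≫ homPre e.inv N = 𝟙 _
    rw [homPre_comp, e.inv_hom_id]
    rfl

end K50.HomAcyc
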