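import Groth.Agent.Coherent.K50.Restr
import Groth.Agent.CohqB.HomSheafMap
import Groth.Agent.PerfB.ModExact
import Groth.Agent.PerfB.GammaZ

/-!
# Exactness of the sheaf Hom into an injective module

* `secHom s : M.restrict U.ι ⟶ N.restrict U.ι` for a section `s` of `homSheaf M N` over `U`.
* `shortExact_homSC`: `0 → Hom(M'', J) → Hom(M, J) → Hom(M', J) → 0` is exact for `J` injective.
-/

set_option autoImplicit false
universe u

open CategoryTheory CategoryTheory.Limits AlgebraicGeometry Opposite TopologicalSpace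

namespace K50.HomInj

open K50.SectOn K50.Restr Groth.Agent.Dcoh.MonClosed Groth.Agent.CohqB.HomSheaf

variable {X : Scheme.{u}} {M M' M'' N : X.Modules} {U : X.Opens}

open Groth.Agent.Ega1.QCohLoc (res resO res_res)

/-- The morphism between restrictions attached to a section of the sheaf Hom. -/
noncomputable def secHom (s : Γ(homSheaf M N, U)) : M.restrict U.ι ⟶ N.restrict U.ι :=
  topEquiv _ _ (resSec U.ι M N (W := ⊤) (res (homSheaf M N) (by simp) s))

theorem secHom_app (s : Γ(homSheaf M N, U)) (V : (U : Scheme.{u}).Opens)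
    (hV : U.ι ''ᵁ V ≤ U) (m : Γ(M, U.ι ''ᵁ V)) :
    (secHom s).app V m = comp s (U.ι ''ᵁ V) hV m := rfl

theorem image_le (V : (U : Scheme.{u}).Opens) : U.ι ''ᵁ V ≤ U := by
  rintro _ ⟨y, _, rfl⟩
  exact y.2

/-- The component of the section attached to a morphism of restrictions. -/
theorem comp_ofRestrict_eq (ψ : M.restrict U.ι ⟶ N.restrict U.ι) (hU : U ≤ U.ι.opensRange) (V : X.Opens)
    (hV : V ≤ U) (m : Γ(M, V)) :
    comp (ofRestrict U.ι ψ hU) V hV m =
      res N (le_image_preimage U.ι (hV.trans hU)) (show Γ(N, U.ι ''ᵁ U.ι ⁻¹ᵁ V) from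
        ψ.app (U.ι ⁻¹ᵁ V) (show Γ(M.restrict U.ι, U.ι ⁻¹ᵁ V) from res M (U.ι.image_preimage_le V) m)) := rfl

theorem comp_res_le (s : Γ(homSheaf M N, U)) {V W : X.Opens} (hV : V ≤ U) (h : W ≤ V) (h' : V ≤ W)
    (m : Γ(M, V)) : res N h' (comp s W (h.trans hV) (res M h m)) = comp s V hV m := by
  obtain rfl := le_antisymm h h'
  change res N _ (comp s W _ (res M _ m)) = _
  rw [Groth.Agent.Ega1.QCohLoc.res_rfl, Groth.Agent.Ega1.QCohLoc.res_rfl]

/-- A morphism of restrictions and its section. -/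
theorem secHom_injective (s t : Γ(homSheaf M N, U)) (h : secHom s = secHom t) : s = t := by
  apply sec_ext
  intro V hV m
  have hU : U ≤ U.ι.opensRange := by rw [Scheme.Opens.opensRange_ι]
  have h1 := congrArg (fun ψ : M.restrict U.ι ⟶ N.restrict U.ι => res N (le_image_preimage U.ι (hV.trans hU))
    (show Γ(N, U.ι ''ᵁ U.ι ⁻¹ᵁ V) from
        ψ.app (U.ι ⁻¹ᵁ V) (show Γ(M.restrict U.ι, U.ι ⁻¹ᵁ V) from res M (U.ι.image_preimage_le V) m))) h
  have key : ∀ s : Γ(homSheaf M N, U), res N (le_image_preimage U.ι (hV.trans hU))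
    (show Γ(N, U.ι ''ᵁ U.ι ⁻¹ᵁ V) from
        (secHom s).app (U.ι ⁻¹ᵁ V) (show Γ(M.restrict U.ι, U.ι ⁻¹ᵁ V) from res M (U.ι.image_preimage_le V) m)) =
        comp s V hV m := fun s => comp_res_le s hV (U.ι.image_preimage_le V) _ m
  exact (key s).symm.trans (h1.trans (key t))

theorem secHom_homPre (g : M' ⟶ M) (s : Γ(homSheaf M N, U)) :
    secHom ((homPre g N).app U s) = (Scheme.Modules.restrictFunctor U.ι).map g ≫ secHom s := rfl

theorem secHom_zero : secHom (0 : Γ(homSheaf M N, U)) = 0 := rfl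

/-- Every morphism of restrictions comes from a section. -/
theorem exists_secHom_eq (ψ : M.restrict U.ι ⟶ N.restrict U.ι) : ∃ s : Γ(homSheaf M N, U), secHom s = ψ := by
  have hU : U ≤ U.ι.opensRange := by rw [Scheme.Opens.opensRange_ι]
  refine ⟨ofRestrict U.ι ψ hU, ?_⟩
  ext V m
  change comp (ofRestrict U.ι ψ hU) (U.ι ''ᵁ V) (image_le V) m = ψ.app V m
  rw [comp_ofRestrict_eq]
  have hpre : ∀ W : (U : Scheme.{u}).Opens, ∀ (e : W = V) (h1 : U.ι ''ᵁ W ≤ U.ι ''ᵁ V)
      (h2 : U.ι ''ᵁ V ≤ U.ι ''ᵁ W) (m : Γ(M, U.ι ''ᵁ V)),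
      res N h2 (show Γ(N, U.ι ''ᵁ W) from ψ.app W (show Γ(M.restrict U.ι, W) from res M h1 m)) = ψ.app V m := by
    rintro W rfl h1 h2 m
    have e1 := Groth.Agent.Ega1.QCohLoc.res_rfl M m
    have e2 := Groth.Agent.Ega1.QCohLoc.res_rfl N (show Γ(N, U.ι ''ᵁ W) from ψ.app W m)
    exact (congrArg (fun z => res N h2 (show Γ(N, U.ι ''ᵁ W) from ψ.app W z)) e1).trans e2
  exact hpre _ (U.ι.preimage_image_eq V) _ _ m

section Exact

variable (f : M' ⟶ M) (g : M ⟶ M'')

theorem homPre_comp (P : X.Modules) : homPre g P ≫ homPre f P = homPre (f ≫ g) P := rfl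

theorem homPre_zero (P : X.Modules) : homPre (0 : M' ⟶ M) P = 0 := by
  ext U s
  apply sec_ext
  intro V hV m
  exact map_zero (comp s V hV)

/-- The short complex `Hom(M'', P) → Hom(M, P) → Hom(M', P)`. -/
noncomputable def homSC (S : ShortComplex X.Modules) (P : X.Modules) : ShortComplex X.Modules :=
  ShortComplex.mk (homPre S.g P) (homPre S.f P) (by rw [homPre_comp, S.zero, homPre_zero])

theorem homPre_injective [Epi g] (P : X.Modules) (U : X.Opens) : Function.Injective ((homPre g P).app U) := by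
  intro s t h
  apply secHom_injective
  have h1 : (Scheme.Modules.restrictFunctor U.ι).map g ≫ secHom s =
    (Scheme.Modules.restrictFunctor U.ι).map g ≫ secHom t := by
    rw [← secHom_homPre, ← secHom_homPre, h]
  exact (cancel_epi _).1 h1

theorem exists_homPre_eq {S : ShortComplex X.Modules} (hS : S.ShortExact) (P : X.Modules) (U : X.Opens)
    (s : Γ(homSheaf S.X₂ P, U)) (h : (homPre S.f P).app U s = 0) :
    ∃ t : Γ(homSheaf S.X₃ P, U), (homPre S.g P).app U t = s := by
  have h1 : (Scheme.Modules.restrictFunctor U.ι).map S.f ≫ secHom s = 0 := by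
    rw [← secHom_homPre, h, secHom_zero]
  have hR : (S.map (Scheme.Modules.restrictFunctor U.ι)).ShortExact := hS.map_of_exact _
  have := hR.epi_g
  obtain ⟨t, ht⟩ := exists_secHom_eq (hR.exact.desc (secHom s) h1)
  refine ⟨t, secHom_injective _ _ ?_⟩
  rw [secHom_homPre, ht]
  exact hR.exact.g_desc (secHom s) h1

theorem homPre_surjective [Mono f] (J : X.Modules) [Injective J] (U : X.Opens) :
    Function.Surjective ((homPre f J).app U) := by
  intro s
  have h0 : Injective ((Scheme.Modules.restrictFunctor U.ι).obj J) :=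
    Groth.Agent.PerfB.GammaZ.injective_restrict U.ι J
  have h1 : Mono ((Scheme.Modules.restrictFunctor U.ι).map f) := inferInstance
  obtain ⟨t, ht⟩ := exists_secHom_eq (M := M) (N := J) (U := U)
    (Injective.factorThru (J := (Scheme.Modules.restrictFunctor U.ι).obj J) (secHom s)
      ((Scheme.Modules.restrictFunctor U.ι).map f))
  refine ⟨t, secHom_injective _ _ ?_⟩
  rw [secHom_homPre, ht]
  exact Injective.comp_factorThru _ _

theorem mono_of_injective {A B : X.Modules} (φ : A ⟶ B) (h : ∀ U : X.Opens, Function.Injective (φ.app U)) :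
    Mono φ := by
  refine ⟨fun {Z} a b hab => ?_⟩
  ext U z
  exact h U (congrArg (fun ψ : Z ⟶ B => ψ.app U z) hab)

theorem exact_homSC {S : ShortComplex X.Modules} (hS : S.ShortExact) (P : X.Modules) : (homSC S P).Exact := by
  apply Groth.Agent.PerfB.ModExact.exact_of_locally_lifts
  intro U y hy x hx
  obtain ⟨t, ht⟩ := exists_homPre_eq hS P U y hy
  refine ⟨U, le_rfl, hx, t, ?_⟩
  refine Eq.trans ht ?_
  exact (Groth.Agent.Ega1.QCohLoc.res_rfl _ _).symm

/-- `0 → Hom(M'', J) → Hom(M, J) → Hom(M', J) → 0` is exact for `J` injective. -/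
theorem shortExact_homSC {S : ShortComplex X.Modules} (hS : S.ShortExact) (J : X.Modules) [Injective J] :
    (homSC S J).ShortExact where
  exact := exact_homSC hS J
  mono_f := by
    have := hS.epi_g
    exact mono_of_injective _ (homPre_injective S.g J)
  epi_g := by
    have := hS.mono_f
    apply Groth.Agent.PerfB.ModExact.epi_of_locally_surjective
    intro U y x hx
    obtain ⟨t, ht⟩ := homPre_surjective S.f J U y
    refine ⟨U, le_rfl, hx, t, ?_⟩
    refine Eq.trans ht ?_
    exact (Groth.Agent.Ega1.QCohLoc.res_rfl _ _).symm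

end Exact

end K50.HomInj
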