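import Mathlib.Algebra.Category.ModuleCat.Abelian
import Mathlib.Algebra.Homology.ShortComplex.ModuleCat
import Mathlib.CategoryTheory.Abelian.Exact
import Mathlib.Algebra.Homology.ShortComplex.ExactFunctor
import Groth.Agent.Localalg.LCAbs

/-!
# The functor `Hom_R(M, -)` on modules, and its torsion subfunctor
-/

set_option autoImplicit false
universe u

open CategoryTheory CategoryTheory.Limits

namespace K50.HomR

open Groth.Agent.Localalg.Gam

variable {R : Type u} [CommRing R] (M : ModuleCat.{u} R)

/-- `Hom_R(M, -)`. -/
def homR : ModuleCat.{u} R ⥤ ModuleCat.{u} R where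
  obj N := ModuleCat.of R (M →ₗ[R] N)
  map {N N'} f := ModuleCat.ofHom (LinearMap.llcomp R M N N' f.hom)
  map_id _ := by
    ext φ m
    rfl
  map_comp _ _ := by
    ext φ m
    rfl

/-- an element of `Hom_R(M, N)`, as a linear map. -/
def toL {N : ModuleCat.{u} R} (φ : (homR M).obj N) : M →ₗ[R] N := φ

/-- a linear map, as an element of `Hom_R(M, N)`. -/
def ofL {N : ModuleCat.{u} R} (φ : M →ₗ[R] N) : (homR M).obj N := φ

theorem toL_map {N N' : ModuleCat.{u} R} (f : N ⟶ N') (φ : (homR M).obj N) (m : M) :
    toL M ((homR M).map f φ) m = f (toL M φ m) := rfl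

theorem toL_ext {N : ModuleCat.{u} R} {φ ψ : (homR M).obj N} (h : ∀ m, toL M φ m = toL M ψ m) : φ = ψ :=
  LinearMap.ext (f := toL M φ) (g := toL M ψ) h

instance : (homR M).Additive where
  map_add {N N' f g} := by
    apply ModuleCat.hom_ext
    apply LinearMap.ext
    intro φ
    apply toL_ext
    intro m
    rfl

instance preservesFiniteLimits_homR : PreservesFiniteLimits (homR M) := by
  have := ((homR M).preservesFiniteLimits_tfae.out 3 1 :)
  refine this.2 fun S hS => ?_
  have hinj : Function.Injective S.f := (ModuleCat.mono_iff_injective _).1 hS.2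
  have hex : Function.Exact S.f S.g := (ShortComplex.ShortExact.moduleCat_exact_iff_function_exact S).1 hS.1
  constructor
  · refine (ShortComplex.ShortExact.moduleCat_exact_iff_function_exact _).2 ?_
    change Function.Exact ((homR M).map S.f) ((homR M).map S.g)
    intro φ
    constructor
    · intro h
      have h1 : ∀ m, S.g (toL M φ m) = 0 := fun m => by
        rw [← toL_map, h]
        rfl
      choose ψ hψ using fun m => (hex (toL M φ m)).1 (h1 m)
      refine ⟨ofL M
        { toFun := ψ
          map_add' := fun m m' => hinj (by rw [map_add, hψ, hψ, hψ, map_add])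
          map_smul' := fun r m => hinj (by rw [hψ, map_smul, RingHom.id_apply, map_smul, hψ]) }, ?_⟩
      exact toL_ext M hψ
    · rintro ⟨ψ, rfl⟩
      apply toL_ext
      intro m
      exact (hex _).2 ⟨_, rfl⟩
  · refine (ModuleCat.mono_iff_injective _).2 ?_
    intro φ ψ h
    apply toL_ext
    intro m
    exact hinj (by rw [← toL_map, ← toL_map, h])

instance preservesFiniteLimits_gam (I : Ideal R) : PreservesFiniteLimits (gamFunctor.{u, u} I) := by
  have := ((gamFunctor.{u, u} I).preservesFiniteLimits_tfae.out 3 1 :)
  refine this.2 fun S hS => ?_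
  have hinj : Function.Injective S.f.hom := (ModuleCat.mono_iff_injective _).1 hS.2
  have hex : Function.Exact S.f.hom S.g.hom := (ShortComplex.ShortExact.moduleCat_exact_iff_function_exact S).1 hS.1
  constructor
  · exact (ShortComplex.ShortExact.moduleCat_exact_iff_function_exact _).2 (gamMap_exact S.f.hom S.g.hom hinj hex)
  · exact (ModuleCat.mono_iff_injective _).2 (gamMap_injective S.f.hom hinj)

/-- `Γ_I Hom_R(M, -)`. -/
abbrev psi (I : Ideal R) : ModuleCat.{u} R ⥤ ModuleCat.{u} R := homR M ⋙ gamFunctor I

end K50.HomR
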