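import Groth.Agent.Coherent.K50.TildeHomIso
import Groth.Agent.PerfA.CohSerre
import Groth.Agent.PerfA.Restrict

/-!
# Local description of Ext sheaves (with supports) on locally Noetherian schemes
-/

set_option autoImplicit false
universe u

open CategoryTheory CategoryTheory.Limits AlgebraicGeometry Opposite TopologicalSpace

namespace K50.Local

open K50.SectOn K50.ExtRes K50.TF K50.HomR K50.TildeGam K50.TildeHomIso
open Groth.Agent.Dcoh.MonClosed Groth.Agent.Localalg.Gam

variable {X : Scheme.{u}}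

theorem isCoh_of_restrict_gen (M : X.Modules)
    (h : ∀ x : X, ∃ (U : Scheme.{u}) (j : U ⟶ X) (_ : IsOpenImmersion j) (y : U), j y = x ∧
      Coh.IsCoh (M.restrict j)) : Coh.IsCoh M := by
  refine Groth.Agent.PerfA.CohSerre.isCoh_of_restrict M fun x => ?_
  obtain ⟨U, j, hj, y, rfl, hM⟩ := h x
  refine ⟨j.opensRange, ⟨y, rfl⟩, ?_⟩
  refine Groth.Agent.PerfA.CohSerre.isCoh_of_iso ?_
    (Groth.Agent.PerfA.CohSerre.isCoh_restrict j.isoOpensRange.inv hM)
  exact ((Scheme.Modules.restrictFunctorComp j.isoOpensRange.inv j).symm ≪≫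
    Scheme.Modules.restrictFunctorCongr (by simp)).app M

/-- Every point has an affine chart. -/
theorem exists_chart (x : X) : ∃ (R : CommRingCat.{u}) (j : Spec R ⟶ X) (_ : IsOpenImmersion j) (y : Spec R),
    j y = x := by
  obtain ⟨y, hy⟩ := X.affineOpenCover.covers x
  exact ⟨_, X.affineOpenCover.f (X.affineOpenCover.idx x), inferInstance, y, hy⟩

theorem isCoh_of_spec (M : X.Modules)
    (h : ∀ (R : CommRingCat.{u}) (j : Spec R ⟶ X) [IsOpenImmersion j], Coh.IsCoh (M.restrict j)) : Coh.IsCoh M :=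
  isCoh_of_restrict_gen M fun x => by
    obtain ⟨R, j, hj, y, hy⟩ := exists_chart x
    exact ⟨_, j, hj, y, hy, h R j⟩

theorem isZero_of_spec (M : X.Modules)
    (h : ∀ (R : CommRingCat.{u}) (j : Spec R ⟶ X) [IsOpenImmersion j], IsZero (M.restrict j)) : IsZero M :=
  Groth.Agent.PerfA.Restrict.isZero_of_restrict M fun x => by
    obtain ⟨R, j, hj, y, hy⟩ := exists_chart x
    exact ⟨_, j, hj, y, hy, h R j⟩

/-- The frozen local Ext sheaf with supports, as a module on `X`. -/
noncomputable abbrev extZ (U : X.Opens) (F G : X.Modules) [ModSite.HasSheafHom (O := X.sheaf) F]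
    [HasInjectiveResolutions (ModSite.Mod X.sheaf)] (n : ℕ) : X.Modules :=
  (ModSite.extZSh (O := X.sheaf) U F n).obj G

/-- The frozen local Ext sheaf, as a module on `X`. -/
noncomputable abbrev extS (F G : X.Modules) [ModSite.HasSheafHom (O := X.sheaf) F]
    [HasInjectiveResolutions (ModSite.Mod X.sheaf)] (n : ℕ) : X.Modules :=
  (ModSite.extSh (O := X.sheaf) F n).obj G

section Chart

variable {R : CommRingCat.{u}} (j : Spec R ⟶ X) [IsOpenImmersion j]

include j in
theorem isNoetherianRing_of_chart [IsLocallyNoetherian X] : IsNoetherianRing R := by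
  have := isLocallyNoetherian_of_isOpenImmersion j
  exact isLocallyNoetherian_Spec.1 this

/-- The module of sections over a chart. -/
noncomputable abbrev mod (F : X.Modules) : ModuleCat.{u} R := (gF R).obj (F.restrict j)

/-- A quasi-coherent module on a chart. -/
noncomputable def modIso (F : X.Modules) (hF : Coh.IsQCoh F) : (tF R).obj (mod j F) ≅ F.restrict j :=
  haveI := (isIso_cou_iff R (F.restrict j)).2 (Groth.Agent.PerfA.QCohSerre.isQCoh_restrict j hF)
  asIso ((cou R).app (F.restrict j))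

theorem finite_mod (F : X.Modules) (hF : Coh.IsCoh F) : Module.Finite R (mod j F) := by
  have h1 := Groth.Agent.PerfA.CohSerre.isCoh_restrict j hF
  have h2 := h1.1
  exact Groth.Agent.CohqB.FiniteType2.finite_of_isFT (F.restrict j) h1.2

/-- The ideal of the closed complement of an open on a chart. -/
def idl (U : X.Opens) : Ideal R := PrimeSpectrum.vanishingIdeal ((j ⁻¹ᵁ U : (Spec R).Opens) : Set (Spec R))ᶜ

omit [IsOpenImmersion j] in
theorem isComplV_idl (U : X.Opens) : IsComplV (idl j U) (j ⁻¹ᵁ U) := by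
  intro x
  have h1 : IsClosed (((j ⁻¹ᵁ U : (Spec R).Opens) : Set (Spec R))ᶜ) := (j ⁻¹ᵁ U).isOpen.isClosed_compl
  have h2 := (PrimeSpectrum.zeroLocus_vanishingIdeal_eq_closure (((j ⁻¹ᵁ U : (Spec R).Opens) : Set (Spec R))ᶜ)).trans
    h1.closure_eq
  have h3 : idl j U ≤ x.asIdeal ↔ x ∈ (((j ⁻¹ᵁ U : (Spec R).Opens) : Set (Spec R))ᶜ) :=
    Set.ext_iff.1 h2 x
  rw [h3]
  exact not_not.symm

/-- The functor `phi` depends on the module only up to isomorphism. -/
noncomputable def phiCongr {Y V : Scheme.{u}} (k : V ⟶ Y) [IsOpenImmersion k] {M M' : Y.Modules} (e : M ≅ M') :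
    phi M k ≅ phi M' k :=
  Functor.isoWhiskerRight (K50.HomAcyc.homCongr e) (DCoh.gammaZ k)

/-- Restriction to an open subscheme. -/
noncomputable def eZ2 {Y U V : Scheme.{u}} (j : Y ⟶ X) (i : U ⟶ X) (k : V ⟶ Y) [IsOpenImmersion j]
    [IsOpenImmersion i] [IsOpenImmersion k] (h : k.opensRange = j ⁻¹ᵁ i.opensRange)
    (F G : X.Modules) [HasInjectiveResolutions X.Modules]
    [HasInjectiveResolutions Y.Modules] (n : ℕ) :
    (Scheme.Modules.restrictFunctor j).obj (((phi F i).rightDerived n).obj G) ≅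
      ((phi (F.restrict j) k).rightDerived n).obj ((Scheme.Modules.restrictFunctor j).obj G) :=
  (phiDerRes j i k h F n).app G

/-- Replacing modules by isomorphic ones. -/
noncomputable def eZ4 {Y V : Scheme.{u}} [HasInjectiveResolutions Y.Modules] (k : V ⟶ Y) [IsOpenImmersion k]
    {M M' N N' : Y.Modules} (e : M ≅ M') (e' : N ≅ N') (n : ℕ) :
    ((phi M k).rightDerived n).obj N ≅ ((phi M' k).rightDerived n).obj N' :=
  (derIso (phiCongr k e) n).app N ≪≫ ((phi M' k).rightDerived n).mapIso e'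

/-- The local Ext sheaf with supports on a chart. -/
theorem nonempty_phi_chart [IsLocallyNoetherian X] {U V : Scheme.{u}} (i : U ⟶ X) [IsOpenImmersion i]
    (k : V ⟶ Spec R) [IsOpenImmersion k] (h : k.opensRange = j ⁻¹ᵁ i.opensRange)
    {J : Ideal R} (hW : IsComplV J k.opensRange) (F G : X.Modules) (hF : Coh.IsCoh F)
    (hG : Coh.IsQCoh G) [HasInjectiveResolutions X.Modules] (n : ℕ) :
    Nonempty ((tF R).obj (((psi (R := R) (mod j F) J).rightDerived n).obj (mod j G)) ≅
      (Scheme.Modules.restrictFunctor j).obj (((phi F i).rightDerived n).obj G)) := by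
  have hR := hasInjectiveResolutions (Spec R)
  have := isNoetherianRing_of_chart j
  have := finite_mod j F hF
  obtain ⟨e3⟩ := nonempty_phi_rightDerived (mod j F) k hW n (mod j G)
  exact ⟨e3 ≪≫ eZ4 k (modIso j F hF.1) (modIso j G hG) n ≪≫ (eZ2 j i k h F G n).symm⟩

theorem nonempty_extZSh [IsLocallyNoetherian X] (U : X.Opens) (F G : X.Modules) (hF : Coh.IsCoh F)
    (hG : Coh.IsQCoh G) [ModSite.HasSheafHom (O := X.sheaf) F] [h : HasInjectiveResolutions (ModSite.Mod X.sheaf)]
    (n : ℕ) :
    Nonempty ((tF R).obj (((psi (R := R) (mod j F) (idl j U)).rightDerived n).obj (mod j G)) ≅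
      (Scheme.Modules.restrictFunctor j).obj (extZ U F G n)) := by
  have hX : HasInjectiveResolutions X.Modules := h
  have hW : IsComplV (idl j U) (j ⁻¹ᵁ U).ι.opensRange := by
    rw [Scheme.Opens.opensRange_ι]
    exact isComplV_idl j U
  have hk : (j ⁻¹ᵁ U).ι.opensRange = j ⁻¹ᵁ U.ι.opensRange := by
    rw [Scheme.Opens.opensRange_ι, Scheme.Opens.opensRange_ι]
  obtain ⟨e⟩ := nonempty_phi_chart j U.ι (j ⁻¹ᵁ U).ι hk hW F G hF hG n
  exact ⟨e ≪≫ ((Scheme.Modules.restrictFunctor j).mapIso ((extZShIso F U n).app G)).symm⟩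

/-- The local Ext sheaf on a chart. -/
theorem nonempty_extSh [IsLocallyNoetherian X] (F G : X.Modules) (hF : Coh.IsCoh F)
    (hG : Coh.IsQCoh G) [ModSite.HasSheafHom (O := X.sheaf) F] [h : HasInjectiveResolutions (ModSite.Mod X.sheaf)]
    (n : ℕ) :
    Nonempty ((tF R).obj (((homR (R := R) (mod j F)).rightDerived n).obj (mod j G)) ≅
      (extS F G n).restrict j) := by
  have hX : HasInjectiveResolutions X.Modules := h
  have hR := hasInjectiveResolutions (Spec R)
  have := isNoetherianRing_of_chart j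
  have := finite_mod j F hF
  let e1 : extS F G n ≅ ((homFunctor F).rightDerived n).obj G :=
    (extShIso F n).app G
  let e2 := (homDerRes j F n).app G
  obtain ⟨e3⟩ := nonempty_hom_rightDerived (mod j F) n (mod j G)
  let e4 : ((homFunctor ((tF R).obj (mod j F))).rightDerived n).obj ((tF R).obj (mod j G)) ≅
      ((homFunctor (F.restrict j)).rightDerived n).obj (G.restrict j) :=
    (derIso (K50.HomAcyc.homCongr (modIso j F hF.1)) n).app _ ≪≫
      ((homFunctor (F.restrict j)).rightDerived n).mapIso (modIso j G hG)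
  exact ⟨e3 ≪≫ e4 ≪≫ e2.symm ≪≫ ((Scheme.Modules.restrictFunctor j).mapIso e1).symm⟩

end Chart

/-- The local Ext sheaves with supports are quasi-coherent. -/
theorem isQCoh_extZSh [IsLocallyNoetherian X] (U : X.Opens) (F G : X.Modules) (hF : Coh.IsCoh F)
    (hG : Coh.IsQCoh G) [ModSite.HasSheafHom (O := X.sheaf) F] [h : HasInjectiveResolutions (ModSite.Mod X.sheaf)]
    (n : ℕ) : Coh.IsQCoh (extZ U F G n) :=
  Groth.Agent.PerfA.QCohSerre.isQCoh_of_restrict_spec _ fun R j _ => by
    obtain ⟨e⟩ := nonempty_extZSh j U F G hF hG n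
    exact Groth.Agent.PerfA.QCohSerre.isQCoh_of_iso e (isQCoh_obj _)

end K50.Local
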