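import Groth.Agent.Coherent.K50.AlgMain
import Groth.Agent.Coherent.K50.Geo
import Groth.Agent.Dcoh.LocalD
import Groth.Agent.CycB.ClosSheaf
import Groth.Agent.CohqB.DevSimple
import Groth.Agent.Ega1.ExtendAff2

/-!
# Coherence and vanishing of Ext sheaves with supports
-/

set_option autoImplicit false
universe u

open CategoryTheory CategoryTheory.Limits AlgebraicGeometry Opposite TopologicalSpace CategoryTheory.Abelian

namespace K50.Main

open K50.TF K50.Local K50.Geo K50.HomR K50.AlgVan K50.AlgExt K50.AlgMain Groth.Agent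

section Chart

variable {X : Scheme.{u}} {R : CommRingCat.{u}} (j : Spec R ⟶ X) [IsOpenImmersion j]

theorem isCoh_tF [IsNoetherianRing R] (K : ModuleCat.{u} R) (hK : Module.Finite R K) : Coh.IsCoh ((tF R).obj K) :=
  Ega1.ExtendAff2.isCoh_tilde K

/-- The module of sections of the structure sheaf. -/
noncomputable def modO : mod j (Coh.structureModule X) ≅ ModuleCat.of R R :=
  haveI : IsIso ((adj R).unit.app (ModuleCat.of R R)) :=
    (inferInstance : IsIso ((tilde.adjunction (R := R)).unit.app (ModuleCat.of R R)))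
  (gF R).mapIso (Dcoh.LocalD.structureRestrict j ≪≫ tildeSelf.symm) ≪≫
    (asIso ((adj R).unit.app (ModuleCat.of R R))).symm

theorem mem_closure_of (U : X.Opens) (F : X.Modules) (hF : Coh.IsCoh F) [IsNoetherianRing R] (p : Spec R)
    (hp : pt p ∈ Module.support R (bar (mod j F) (idl j U))) :
    j p ∈ closure (CohB1.support F ∩ (U : Set X)) := by
  have hfin := finite_mod j F hF
  obtain ⟨q, hq, hqp, hJ⟩ := exists_le_of_mem_support (mod j F) (idl j U) (pt p) hp
  have h1 : (show Spec R from q) ⤳ p := (PrimeSpectrum.le_iff_specializes q (pt p)).1 hqp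
  have h2 : j (show Spec R from q) ⤳ j p := h1.map j.continuous
  have h3 : j (show Spec R from q) ∈ CohB1.support F := (mem_support_iff j F hF.1 q).2 hq
  have h4 : j (show Spec R from q) ∈ (U : Set X) := by
    by_contra h
    exact hJ ((idl_le_iff j U q).2 h)
  exact h2.mem_closed isClosed_closure (subset_closure ⟨h3, h4⟩)

end Chart

variable {X : Scheme.{u}} [IsLocallyNoetherian X] (U : X.Opens) (F G : X.Modules) (hF : Coh.IsCoh F)
  (hG : Coh.IsCoh G) [ModSite.HasSheafHom (O := X.sheaf) F] [h : HasInjectiveResolutions (ModSite.Mod X.sheaf)]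

include hF hG in
theorem isCoh_of (n : ℕ)
    (H : ∀ (R : CommRingCat.{u}) (j : Spec R ⟶ X) [IsOpenImmersion j] [IsNoetherianRing R] (k : ℕ),
      Subsingleton (Ext.{u} (tst (mod j F) (idl j U) k) (mod j G) n)) :
    Coh.IsCoh (extZ U F G n) := by
  refine isCoh_of_spec _ fun R j hj => ?_
  have hR := isNoetherianRing_of_chart j
  have h1 := finite_mod j F hF
  have h2 := finite_mod j G hG
  obtain ⟨e⟩ := nonempty_extZSh j U F G hF hG.1 n
  exact PerfA.CohSerre.isCoh_of_iso e
    (isCoh_tF _ (finite_of (mod j F) (idl j U) (mod j G) n (H R j)))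

include hF hG in
theorem isZero_of (n : ℕ)
    (H : ∀ (R : CommRingCat.{u}) (j : Spec R ⟶ X) [IsOpenImmersion j] [IsNoetherianRing R] (k : ℕ),
      Subsingleton (Ext.{u} (ModuleCat.of R (mod j F ⧸ (idl j U ^ k • ⊤ : Submodule R (mod j F)))) (mod j G) n)) :
    IsZero (extZ U F G n) := by
  refine isZero_of_spec _ fun R j hj => ?_
  have hR := isNoetherianRing_of_chart j
  obtain ⟨e⟩ := nonempty_extZSh j U F G hF hG.1 n
  refine IsZero.of_iso ?_ e.symm
  exact (tF R).map_isZero (isZero_psi (mod j F) (idl j U) (mod j G) n (H R j))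

include hF hG in
/-- S12880 -/
theorem isCoh_of_support (hsupp : ∀ x ∈ CohB1.support F, x ∉ (U : Set X)) (n : ℕ) :
    Coh.IsCoh (extZ U F G n) := by
  refine isCoh_of U F G hF hG n fun R j _ _ k => ?_
  have h1 := finite_mod j F hF
  have h2 : Module.support R (bar (mod j F) (idl j U)) = ∅ := by
    rw [Set.eq_empty_iff_forall_notMem]
    intro p hp
    obtain ⟨q, hq, _, hJ⟩ := exists_le_of_mem_support (mod j F) (idl j U) p hp
    exact hJ ((idl_le_iff j U (show Spec R from q)).2 (hsupp _ ((mem_support_iff j F hF.1 q).2 hq)))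
  have h3 : Subsingleton (bar (mod j F) (idl j U)) := Module.support_eq_empty_iff.1 h2
  have h4 : Subsingleton (tst (mod j F) (idl j U) k) := inferInstance
  exact ext_of_subsingleton _ _ n

include hF hG in
/-- S12881 -/
theorem isCoh_of_depth (n : ℕ)
    (hdepth : ∀ x ∈ closure (CohB1.support F ∩ (U : Set X)), x ∉ (U : Set X) →
      (n : ℕ∞) ≤ LocCoh.depth (X.presheaf.stalk x) (G.presheaf.stalk x)) (i : ℕ) (hi : i < n) :
    Coh.IsCoh (extZ U F G i) := by
  refine isCoh_of U F G hF hG i fun R j _ _ k => ?_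
  have h1 := finite_mod j F hF
  have h2 := finite_mod j G hG
  refine ext_of_depthC _ (mod j G) n i hi fun p hp => ?_
  obtain ⟨hp1, hp2⟩ := support_tst (mod j F) (idl j U) k p hp
  rw [← depth_eq j G hG.1 (show Spec R from p)]
  exact hdepth _ (mem_closure_of j U F hF p hp1) ((idl_le_iff j U (show Spec R from p)).1 hp2)

include hF hG in
/-- S12882 -/
theorem isZero_of_dim (hreg : ∀ x : X, IsRegularLocalRing (X.presheaf.stalk x)) (i : ℕ)
    (hi : ∀ x ∈ CohB1.support F, x ∉ (U : Set X) → ringKrullDim (X.presheaf.stalk x) < (i : WithBot ℕ∞)) :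
    IsZero (extZ U F G i) := by
  refine isZero_of U F G hF hG i fun R j _ _ k => ?_
  have h1 := finite_mod j F hF
  refine ext_of_height_ltC _ (mod j G) i (fun p => isRegular j (show Spec R from p) (hreg _)) fun p hp => ?_
  have hp1 : p ∈ Module.support R (mod j F) :=
    Module.support_subset_of_surjective (idl j U ^ k • ⊤ : Submodule R (mod j F)).mkQ (Submodule.mkQ_surjective _) hp
  have hp2 : idl j U ≤ p.asIdeal := by
    rw [Module.support_eq_zeroLocus] at hp
    have h3 : idl j U ^ k ≤ Module.annihilator R (mod j F ⧸ (idl j U ^ k • ⊤ : Submodule R (mod j F))) :=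
      fun a ha => Module.mem_annihilator.2 fun x => by
        obtain ⟨m, rfl⟩ := Submodule.mkQ_surjective _ x
        rw [← map_smul, Submodule.mkQ_apply, Submodule.Quotient.mk_eq_zero]
        exact Submodule.smul_mem_smul ha trivial
    intro a ha
    exact p.2.mem_of_pow_mem k (hp (h3 (Ideal.pow_mem_pow ha k)))
  have h4 := hi _ ((mem_support_iff j F hF.1 p).2 hp1) ((idl_le_iff j U (show Spec R from p)).1 hp2)
  rw [ringKrullDim_stalk j (show Spec R from p)] at h4
  exact_mod_cast h4

include hF hG in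
/-- S12883 -/
theorem isCoh_of_dim (hreg : ∀ x : X, IsRegularLocalRing (X.presheaf.stalk x)) (i : ℕ)
    (hi : ∀ x ∈ closure (CohB1.support F ∩ (U : Set X)), x ∉ (U : Set X) →
      ringKrullDim (X.presheaf.stalk x) < (i : WithBot ℕ∞)) :
    Coh.IsCoh (extZ U F G i) := by
  refine isCoh_of U F G hF hG i fun R j _ _ k => ?_
  have h1 := finite_mod j F hF
  refine ext_of_height_ltC _ (mod j G) i (fun p => isRegular j (show Spec R from p) (hreg _)) fun p hp => ?_
  obtain ⟨hp1, hp2⟩ := support_tst (mod j F) (idl j U) k p hp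
  have h4 := hi _ (mem_closure_of j U F hF p hp1) ((idl_le_iff j U (show Spec R from p)).1 hp2)
  rw [ringKrullDim_stalk j (show Spec R from p)] at h4
  exact_mod_cast h4

include hF in
/-- S12884 -/
theorem isCoh_of_ne (hreg : ∀ x : X, IsRegularLocalRing (X.presheaf.stalk x)) (n : ℕ)
    (hn : ∀ x ∈ closure (CohB1.support F ∩ (U : Set X)), x ∉ (U : Set X) →
      ringKrullDim (X.presheaf.stalk x) ≠ (n : WithBot ℕ∞)) :
    Coh.IsCoh (extZ U F (Coh.structureModule X) n) := by
  refine isCoh_of U F _ hF (Fdesc.StructMod.isCoh_structureModule X) n fun R j _ _ k => ?_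
  have h1 := finite_mod j F hF
  refine (Localalg.Depth.ext_subsingleton_congr (Iso.refl _) (modO j) n).2 ?_
  refine ext_self_of_height_neC _ n (fun p => isRegular j (show Spec R from p) (hreg _)) fun p hp => ?_
  obtain ⟨hp1, hp2⟩ := support_tst (mod j F) (idl j U) k p hp
  have h4 := hn _ (mem_closure_of j U F hF p hp1) ((idl_le_iff j U (show Spec R from p)).1 hp2)
  rw [ringKrullDim_stalk j (show Spec R from p)] at h4
  exact_mod_cast h4

end K50.Main
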