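import Groth.Agent.Coherent.K50.Main

/-!
# Depth and vanishing of Ext sheaves
-/

set_option autoImplicit false
universe u

open CategoryTheory CategoryTheory.Limits AlgebraicGeometry Opposite TopologicalSpace CategoryTheory.Abelian

namespace K50.Main2

open K50.TF K50.Local K50.Geo K50.HomR K50.AlgVan K50.AlgExt K50.AlgMain K50.Main Groth.Agent

theorem isZero_of_tF {R : CommRingCat.{u}} (K : ModuleCat.{u} R) (h : IsZero ((tF R).obj K)) : IsZero K := by
  rw [IsZero.iff_id_eq_zero]
  apply (tF R).map_injective
  exact h.eq_of_src _ _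

variable {X : Scheme.{u}} [IsLocallyNoetherian X]

section

variable (F G : X.Modules) (hF : Coh.IsCoh F) (hG : Coh.IsCoh G) [ModSite.HasSheafHom (O := X.sheaf) G]
  [h : HasInjectiveResolutions (ModSite.Mod X.sheaf)]

include hG in
theorem isZero_extS_iff (hF : Coh.IsQCoh F) {R : CommRingCat.{u}} (j : Spec R ⟶ X) [IsOpenImmersion j] (i : ℕ) :
    IsZero ((extS G F i).restrict j) ↔ Subsingleton (Ext.{u} (mod j G) (mod j F) i) := by
  obtain ⟨e⟩ := nonempty_extSh j G F hG hF i
  rw [← isZero_homR_iff_ext]
  constructor
  · intro h1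
    exact isZero_of_tF _ (IsZero.of_iso h1 e)
  · intro h1
    exact IsZero.of_iso ((tF R).map_isZero h1) e.symm

include hF hG in
/-- vanishing of Ext sheaves below the depth. -/
theorem isZero_extS (n : ℕ)
    (hd : ∀ x ∈ CohB1.support G, (n : ℕ∞) ≤ LocCoh.depth (X.presheaf.stalk x) (F.presheaf.stalk x))
    (i : ℕ) (hi : i < n) : IsZero (extS G F i) := by
  refine isZero_of_spec _ fun R j hj => ?_
  have hR := isNoetherianRing_of_chart j
  have h1 := finite_mod j F hF
  have h2 := finite_mod j G hG
  rw [isZero_extS_iff F G hG hF.1 j i]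
  refine ext_of_depthC (mod j G) (mod j F) n i hi fun p hp => ?_
  rw [← depth_eq j F hF.1 (show Spec R from p)]
  exact hd _ ((mem_support_iff j G hG.1 p).2 hp)

include hF hG in
/-- the depth is at least `n` on the support of `G` if the Ext sheaves vanish below `n`. -/
theorem le_depth (n : ℕ) (hz : ∀ i : ℕ, i < n → IsZero (extS G F i)) (x : X) (hx : x ∈ CohB1.support G) :
    (n : ℕ∞) ≤ LocCoh.depth (X.presheaf.stalk x) (F.presheaf.stalk x) := by
  obtain ⟨R, j, hj, p, rfl⟩ := exists_chart x
  have hR := isNoetherianRing_of_chart j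
  have h1 := finite_mod j F hF
  have h2 := finite_mod j G hG
  rw [depth_eq j F hF.1 p]
  refine depth_of_extC (mod j G) (mod j F) n (fun i hi => ?_) (pt p) ((mem_support_iff j G hG.1 p).1 hx)
  rw [← isZero_extS_iff F G hG hF.1 j i]
  exact (Scheme.Modules.restrictFunctor j).map_isZero (hz i hi)

end

theorem mem_support_structureModule (X : Scheme.{u}) [IsLocallyNoetherian X] (x : X) :
    x ∈ CohB1.support (Coh.structureModule X) := by
  obtain ⟨R, j, hj, p, rfl⟩ := exists_chart x
  rw [mem_support_iff j _ (Fdesc.StructMod.isCoh_structureModule X).1 p]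
  have h1 : Module.support R (mod j (Coh.structureModule X)) = Module.support R (ModuleCat.of R R) :=
    (modO j).toLinearEquiv.support_eq
  rw [h1]
  have h2 : Module.annihilator R R ≤ px p := by
    rw [Module.annihilator_eq_bot.2 inferInstance]
    exact bot_le
  have h3 : Module.support R (ModuleCat.of R R) = PrimeSpectrum.zeroLocus (Module.annihilator R R : Set R) :=
    Module.support_eq_zeroLocus
  rw [h3]
  exact h2

/-- There is a coherent module with given closed support. -/
theorem exists_support_eq (U : X.Opens) : ∃ G : X.Modules, Coh.IsCoh G ∧ CohB1.support G = (U : Set X)ᶜ := by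
  let Z : Closeds X := ⟨(U : Set X)ᶜ, U.isOpen.isClosed_compl⟩
  let I := Scheme.IdealSheafData.vanishingIdeal Z
  have : IsLocallyNoetherian I.subscheme := LocallyOfFiniteType.isLocallyNoetherian I.subschemeι
  refine ⟨(Coh.push I.subschemeι).obj (Coh.structureModule I.subscheme), CycB.ClosSheaf.isCoh_push_structureModule _, ?_⟩
  rw [CohqB.DevSimple.support_push]
  have h1 : CohB1.support (Coh.structureModule I.subscheme) = Set.univ :=
    Set.eq_univ_of_forall (mem_support_structureModule _)
  rw [h1, Set.image_univ, Scheme.IdealSheafData.range_subschemeι]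
  exact Scheme.IdealSheafData.coe_support_vanishingIdeal Z

end K50.Main2
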