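import Mathlib.CategoryTheory.NatIso
import Mathlib.CategoryTheory.Preadditive.AdditiveFunctor

/-!
# Generic constructors of natural isomorphisms between composite functors

Stated for arbitrary functors, so that the kernel never has to unfold concrete functors.
-/

set_option autoImplicit false

open CategoryTheory

namespace K50.NatAux

universe v₁ v₂ v₃ v₄ u₁ u₂ u₃ u₄

variable {A : Type u₁} {B : Type u₂} {C : Type u₃} {D : Type u₄} [Category.{v₁} A] [Category.{v₂} B]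
  [Category.{v₃} C] [Category.{v₄} D]

/-- A natural isomorphism between composites from components. -/
def mkIso (F : A ⥤ B) (G : B ⥤ D) (F' : A ⥤ C) (G' : C ⥤ D) (e : ∀ a, G.obj (F.obj a) ⟶ G'.obj (F'.obj a))
    (inv : ∀ a, G'.obj (F'.obj a) ⟶ G.obj (F.obj a)) (h₁ : ∀ a, e a ≫ inv a = 𝟙 _) (h₂ : ∀ a, inv a ≫ e a = 𝟙 _)
    (nat : ∀ (a b : A) (f : a ⟶ b), G.map (F.map f) ≫ e b = e a ≫ G'.map (F'.map f)) : F ⋙ G ≅ F' ⋙ G' where
  hom := { app := e, naturality := fun a b f => nat a b f }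
  inv :=
    { app := inv
      naturality := fun a b f => by
        change G'.map (F'.map f) ≫ inv b = inv a ≫ G.map (F.map f)
        have h3 : inv a ≫ (G.map (F.map f) ≫ e b) ≫ inv b = inv a ≫ (e a ≫ G'.map (F'.map f)) ≫ inv b := by
          rw [nat]
        simp only [Category.assoc, h₁] at h3
        rw [← Category.assoc (inv a) (e a), h₂, Category.id_comp, Category.comp_id] at h3
        exact h3.symm }
  hom_inv_id := by
    ext a
    exact h₁ a
  inv_hom_id := by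
    ext a
    exact h₂ a

/-- A natural isomorphism between composites from a natural family of isomorphisms. -/
noncomputable def mkIso' (F : A ⥤ B) (G : B ⥤ D) (F' : A ⥤ C) (G' : C ⥤ D)
    (e : ∀ a, G.obj (F.obj a) ⟶ G'.obj (F'.obj a))
    (h : ∀ a, IsIso (e a)) (nat : ∀ (a b : A) (f : a ⟶ b), G.map (F.map f) ≫ e b = e a ≫ G'.map (F'.map f)) :
    F ⋙ G ≅ F' ⋙ G' :=
  mkIso F G F' G' e (fun a => @CategoryTheory.inv _ _ _ _ (e a) (h a)) (fun a => @IsIso.hom_inv_id _ _ _ _ (e a) (h a))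
    (fun a => @IsIso.inv_hom_id _ _ _ _ (e a) (h a)) nat

/-- Components of a natural isomorphism between composites. -/
def app2 (F : A ⥤ B) (G : B ⥤ D) (F' : A ⥤ C) (G' : C ⥤ D) (e : F ⋙ G ≅ F' ⋙ G') (a : A) :
    G.obj (F.obj a) ≅ G'.obj (F'.obj a) := e.app a

universe v₅ v₆ u₅ u₆

variable {B' : Type u₅} {C' : Type u₆} [Category.{v₅} B'] [Category.{v₆} C'] {A' : Type u₄} [Category.{v₄} A']

/-- Gluing two squares. -/
def glue (P : A ⥤ A') (H : A ⥤ B) (G : B ⥤ C) (Q : B ⥤ B') (Q' : C ⥤ C') (H' : A' ⥤ B') (G' : B' ⥤ C')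
    (e : H ⋙ Q ≅ P ⋙ H') (e' : G ⋙ Q' ≅ Q ⋙ G') : (H ⋙ G) ⋙ Q' ≅ P ⋙ (H' ⋙ G') :=
  Functor.associator H G Q' ≪≫ Functor.isoWhiskerLeft H e' ≪≫ (Functor.associator H Q G').symm ≪≫
    Functor.isoWhiskerRight e G' ≪≫ Functor.associator P H' G'

end K50.NatAux
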