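import Groth.Agent.Coherent.K50.TildeGam
import Groth.Agent.Coherent.K50.HomAcyc
import Groth.Agent.Coherent.K50.ExtRes
import Groth.Agent.Sga4h.LerayAcyc
import Groth.Agent.Localalg.LCAbs
import Groth.Agent.PerfC.QCohInj

/-!
# Sections with support of the sheaf Hom

* `gamHomIso : gammaZ i ⋙ homFunctor F ≅ phi F i`.
* `isAcyc_phi`: `I~` is acyclic for `phi M~ i`, `M` finite over the Noetherian ring `R`, `I` injective.
-/

set_option autoImplicit false
universe u

open CategoryTheory CategoryTheory.Limits AlgebraicGeometry Opposite TopologicalSpace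

namespace K50.PhiAcyc

open K50.SectOn K50.Restr K50.ExtRes K50.GamInj K50.GamAcyc Groth.Agent.Dcoh.MonClosed
open Groth.Agent.CohqB.HomSheaf Groth.Agent.Cohder.RDAcyc K50.TF

variable {X U : Scheme.{u}} (i : U ⟶ X) [IsOpenImmersion i] (F : X.Modules)

/-- A map to the sheaf Hom vanishes on the open iff its composite with `Hom(F, N → j_* j^* N)` vanishes. -/
theorem comp_unit_hom_iff {T N : X.Modules} (t : T ⟶ homSheaf F N) :
    t ≫ (homFunctor F).map ((Scheme.Modules.restrictAdjunction i).unit.app N) = 0 ↔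
      t ≫ (Scheme.Modules.restrictAdjunction i).unit.app (homSheaf F N) = 0 := by
  rw [comp_unit_iff' i t]
  constructor
  · intro h V s
    apply sec_ext
    intro W hW m
    have h1 : ((Scheme.Modules.restrictAdjunction i).unit.app N).app W
        (comp (t.app V s) W (hW.trans inf_le_left) m) = 0 := by
      have h2 := congrArg (fun ψ : T ⟶ homSheaf F _ => comp (ψ.app V s) W (hW.trans inf_le_left) m) h
      exact h2
    rw [unit_app_eq_zero_iff] at h1
    change comp (t.app V s) W _ m = 0
    have h3 : W ⊓ i.opensRange = W := inf_eq_left.2 (hW.trans inf_le_right)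
    have key : ∀ W' : X.Opens, W' = W → ∀ (h' : W' ≤ W) (x : Γ(N, W)),
        N.presheaf.map (homOfLE h').op x = 0 → x = 0 := by
      rintro W' rfl h' x hx
      exact (Groth.Agent.Ega1.QCohLoc.res_rfl N x).symm.trans hx
    exact key _ h3 inf_le_left _ h1
  · intro h
    ext V s
    apply sec_ext
    intro W hW m
    change ((Scheme.Modules.restrictAdjunction i).unit.app N).app W (comp (t.app V s) W hW m) = 0
    rw [unit_app_eq_zero_iff, ← comp_map (t.app V s) hW (inf_le_left : W ⊓ i.opensRange ≤ W) m]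
    have h1 := h V s
    exact congrArg (fun z : Γ(homSheaf F N, V ⊓ i.opensRange) => comp z (W ⊓ i.opensRange)
      (inf_le_inf_right _ hW) (F.presheaf.map (homOfLE (inf_le_left : W ⊓ i.opensRange ≤ W)).op m)) h1

/-- `Hom(F, Γ_Z N) ≅ Γ_Z Hom(F, N)`. -/
noncomputable def gamHomApp (N : X.Modules) :
    (homFunctor F).obj ((DCoh.gammaZ i).obj N) ≅ (DCoh.gammaZ i).obj ((homFunctor F).obj N) :=
  PreservesKernel.iso (homFunctor F) ((Scheme.Modules.restrictAdjunction i).unit.app N) ≪≫
    kernelIso ((homFunctor F).map ((Scheme.Modules.restrictAdjunction i).unit.app N))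
      ((Scheme.Modules.restrictAdjunction i).unit.app ((homFunctor F).obj N)) (fun _ t => comp_unit_hom_iff i F t)

theorem gamHomApp_ι (N : X.Modules) :
    (gamHomApp i F N).hom ≫ ιG i ((homFunctor F).obj N) = (homFunctor F).map (ιG i N) := by
  refine (Category.assoc _ _ _).trans ?_
  refine (congrArg (_ ≫ ·) (kernelIso_hom_ι
    ((homFunctor F).map ((Scheme.Modules.restrictAdjunction i).unit.app N))
      ((Scheme.Modules.restrictAdjunction i).unit.app ((homFunctor F).obj N)) (fun _ t => comp_unit_hom_iff i F t))).trans ?_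
  exact kernelComparison_comp_ι _ _

theorem gamHomApp_naturality {N N' : X.Modules} (f : N ⟶ N') :
    (homFunctor F).map ((DCoh.gammaZ i).map f) ≫ (gamHomApp i F N').hom =
      (gamHomApp i F N).hom ≫ (DCoh.gammaZ i).map ((homFunctor F).map f) := by
  rw [← cancel_mono (ιG i ((homFunctor F).obj N')), Category.assoc, gamHomApp_ι, Category.assoc, map_ιG,
    ← Category.assoc, gamHomApp_ι, ← Functor.map_comp, ← Functor.map_comp, map_ιG]

/-- `Hom(F, Γ_Z -) ≅ Γ_Z Hom(F, -)`. -/
noncomputable def gamHomIso : DCoh.gammaZ i ⋙ homFunctor F ≅ phi F i :=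
  K50.NatAux.mkIso (DCoh.gammaZ i) (homFunctor F) (homFunctor F) (DCoh.gammaZ i)
    (fun N => (gamHomApp i F N).hom) (fun N => (gamHomApp i F N).inv)
    (fun N => (gamHomApp i F N).hom_inv_id) (fun N => (gamHomApp i F N).inv_hom_id)
    (fun _ _ f => gamHomApp_naturality i F f)

/-- Modules which are acyclic for sections with support, and whose sections with support are acyclic for the
sheaf Hom, are acyclic for the composite. -/
theorem isAcyc_phi_of [HasInjectiveResolutions X.Modules] (N : X.Modules) (h : IsAcyc (DCoh.gammaZ i) N)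
    (h' : IsAcyc (homFunctor F) ((DCoh.gammaZ i).obj N)) : IsAcyc (phi F i) N := by
  intro q hq
  have e1 := Groth.Agent.Sga4h.LerayAcyc.rightDerivedIso (DCoh.gammaZ i) (homFunctor F)
    (fun I _ => injective_gammaZ i I) N h q
  have e2 := (derIso (gamHomIso i F) q).app N
  exact ((h' q hq).of_iso e1).of_iso e2.symm

theorem isAcyc_of_iso {C D : Type*} [Category* C] [Category* D] [Abelian C] [Abelian D] [HasInjectiveResolutions C]
    (T : C ⥤ D) [T.Additive] {A B : C} (e : A ≅ B) (h : IsAcyc T A) : IsAcyc T B :=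
  fun q hq => (h q hq).of_iso ((T.rightDerived q).mapIso e.symm)

section Tilde

variable {R : CommRingCat.{u}} [IsNoetherianRing R] {V : Scheme.{u}} (k : V ⟶ Spec R) [IsOpenImmersion k]

theorem isFlasqueMod_tF (I : ModuleCat.{u} R) [Injective I] :
    Groth.Agent.PerfC.FlasquePush.IsFlasqueMod ((tF R).obj I) := by
  rw [Groth.Agent.PerfC.FlasquePush.isFlasqueMod_iff]
  intro U W h
  exact Groth.Agent.PerfC.QCohInj.tilde_map_surjective I h

/-- `I~` is acyclic for `phi M~ k`. -/
theorem isAcyc_phi [HasInjectiveResolutions (Spec R).Modules] {J : Ideal R}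
    (hW : K50.TildeGam.IsComplV J k.opensRange) (I : ModuleCat.{u} R) [Injective I]
    (M : ModuleCat.{u} R) [Module.Finite R M] : IsAcyc (phi ((tF R).obj M) k) ((tF R).obj I) := by
  refine isAcyc_phi_of k _ _ (isAcyc_of_flasque k _ (isFlasqueMod_tF I)) ?_
  have h1 : Injective ((Groth.Agent.Localalg.Gam.gamFunctor J).obj I) :=
    Groth.Agent.Localalg.LCAbs.injective_gamObj J I
  exact isAcyc_of_iso _ ((K50.TildeGam.gamTildeIso k hW).app I) (K50.HomAcyc.isAcyc_tilde _ M)

end Tilde

end K50.PhiAcyc
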