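import Groth.Agent.Coherent.K50.GamQC
import Groth.Agent.Coherent.K50.GamAcyc
import Groth.Agent.Coherent.K50.NatAux
import Groth.Agent.Coherent.K50.TF
import Groth.Agent.PerfB.FlatAdj
import Groth.Agent.PerfC.InjFlasque
import Groth.Agent.Localalg.GamFlat
import Mathlib.AlgebraicGeometry.Modules.Tilde

/-!
# Sections with support on an affine scheme

* `gamTildeIso : gamFunctor J ⋙ tF R ≅ tF R ⋙ DCoh.gammaZ i` for `R` Noetherian and
  `i : U ⟶ Spec R` the open complement of `V(J)`.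
-/

set_option autoImplicit false
universe u

open CategoryTheory CategoryTheory.Limits AlgebraicGeometry Opposite TopologicalSpace

namespace K50.TildeGam

open K50.SectOn K50.TF K50.Restr K50.GamInj K50.GamAcyc K50.GamQC Groth.Agent.PerfC.InjFlasque Groth.Agent.Localalg.Gam

variable {R : CommRingCat.{u}}

theorem res_bo_eq_zero_iff (F : (Spec R).Modules) (hF : Coh.IsQCoh F) (g : R) (t : Γ(F, ⊤)) :
    res F (le_top : bo g ≤ ⊤) t = 0 ↔ ∃ n : ℕ, g ^ n • t = 0 := by
  have : F.IsQuasicoherent := hF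
  have h := isLocalizedModule_res F g
  rw [IsLocalizedModule.eq_zero_iff (.powers g) (res F le_top) (m := t)]
  constructor
  · rintro ⟨⟨_, n, rfl⟩, hn⟩
    exact ⟨n, hn⟩
  · rintro ⟨n, hn⟩
    exact ⟨⟨g ^ n, n, rfl⟩, hn⟩

/-- the open complement of `V(J)`. -/
def IsComplV (J : Ideal R) (W : (Spec R).Opens) : Prop := ∀ x : Spec R, x ∈ W ↔ ¬ J ≤ x.asIdeal

theorem IsComplV.eq_iSup {J : Ideal R} {W : (Spec R).Opens} (h : IsComplV J W) : W = ⨆ g : J, bo (g : R) := by
  ext x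
  rw [SetLike.mem_coe, h x]
  constructor
  · intro hx
    obtain ⟨g, hg, hgx⟩ := SetLike.not_le_iff_exists.1 hx
    exact Opens.mem_iSup.2 ⟨⟨g, hg⟩, hgx⟩
  · intro hx hle
    obtain ⟨⟨g, hg⟩, hgx⟩ := Opens.mem_iSup.1 hx
    exact hgx (hle hg)

variable [IsNoetherianRing R]

theorem mem_gam_iff_forall {N : Type u} [AddCommGroup N] [Module R N] (J : Ideal R) (t : N) :
    t ∈ gam J N ↔ ∀ g ∈ J, ∃ n : ℕ, g ^ n • t = 0 := by
  constructor
  · rintro ⟨n, hn⟩ g hg
    exact ⟨n, hn _ (Ideal.pow_mem_pow hg n)⟩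
  · intro h
    have h1 : J ≤ Ideal.radical (LinearMap.ker (LinearMap.toSpanSingleton R N t) : Ideal R) := by
      intro g hg
      obtain ⟨n, hn⟩ := h g hg
      exact ⟨n, hn⟩
    obtain ⟨n, hn⟩ := Ideal.exists_pow_le_of_le_radical_of_fg h1 (IsNoetherian.noetherian J)
    exact ⟨n, fun a ha => hn ha⟩

/-- A global section of a quasi-coherent module on `Spec R` vanishes off `V(J)` iff it is `J`-power torsion. -/
theorem map_top_eq_zero_iff {J : Ideal R} {W : (Spec R).Opens} (hW : IsComplV J W) (F : (Spec R).Modules)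
    (hF : Coh.IsQCoh F) (t : Γ(F, ⊤)) :
    F.presheaf.map (homOfLE (inf_le_left : ⊤ ⊓ W ≤ ⊤)).op t = 0 ↔ t ∈ gam J Γ(F, ⊤) := by
  rw [mem_gam_iff_forall]
  have h1 : ⊤ ⊓ W = ⨆ g : J, bo (g : R) := by rw [top_inf_eq, hW.eq_iSup]
  have hle : ∀ g : J, bo (g : R) ≤ ⊤ ⊓ W := fun g => by
    rw [h1]
    exact le_iSup (fun g : J => bo (g : R)) g
  constructor
  · intro h g hg
    rw [← res_bo_eq_zero_iff F hF g t]
    have h2 : res F (hle ⟨g, hg⟩) (res F (inf_le_left : ⊤ ⊓ W ≤ ⊤) t) = 0 := by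
      rw [res_apply F (inf_le_left : ⊤ ⊓ W ≤ ⊤), h, map_zero]
    rwa [res_res] at h2
  · intro h
    refine Groth.Agent.Ega1.QCohLoc.eq_of_locally_eq F (fun g : J => bo (g : R)) (⊤ ⊓ W) hle h1.le _ _ ?_
    rintro ⟨g, hg⟩
    rw [map_zero]
    have h2 := (res_bo_eq_zero_iff F hF g t).2 (h g hg)
    exact (res_res F (hle ⟨g, hg⟩) (inf_le_left : ⊤ ⊓ W ≤ ⊤) t).trans h2

variable {U : Scheme.{u}} (i : U ⟶ Spec R) [IsOpenImmersion i]

theorem mem_range_ιG_iff {J : Ideal R} (hW : IsComplV J i.opensRange) (F : (Spec R).Modules)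
    (hF : Coh.IsQCoh F) (t : Γ(F, ⊤)) :
    t ∈ Set.range ((ιG i F).app ⊤) ↔ t ∈ gam J Γ(F, ⊤) := by
  rw [mem_range_iff i F ⊤ t, map_top_eq_zero_iff hW F hF]

theorem quasiCompact (i : U ⟶ Spec R) [IsOpenImmersion i] : QuasiCompact i := by
  have : IsLocallyNoetherian (Spec R) := inferInstance
  infer_instance

/-- the inclusion of the torsion. -/
noncomputable def gamIncl (J : Ideal R) (N : ModuleCat.{u} R) : (gamFunctor J).obj N ⟶ N :=
  ModuleCat.ofHom (gam J N).subtype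

omit [IsNoetherianRing R] in
theorem mono_gamIncl (J : Ideal R) (N : ModuleCat.{u} R) : Mono (gamIncl J N) :=
  (ModuleCat.mono_iff_injective _).2 (gam J N).injective_subtype

theorem restrict_map_gamIncl {J : Ideal R} (hW : IsComplV J i.opensRange) (N : ModuleCat.{u} R) :
    (Scheme.Modules.restrictFunctor i).map ((tF R).map (gamIncl J N)) = 0 := by
  refine (comp_unit_eq_zero_iff (Scheme.Modules.restrictAdjunction i) _).1 ?_
  refine tilde_ext _ _ fun m => ?_
  have h1 : ((Scheme.Modules.restrictAdjunction i).unit.app ((tF R).obj N)).app ⊤ (sec (gamIncl J N m)) = 0 := by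
    rw [unit_app_eq_zero_iff i ((tF R).obj N) ⊤, map_top_eq_zero_iff hW _ (isQCoh_obj N)]
    exact map_mem_gam (secL N) m.2
  rw [← map_sec (gamIncl J N) m] at h1
  exact h1

/-- `(Γ_J N)~ ⟶ Γ_Z (N~)`. -/
noncomputable def gamTildeHom {J : Ideal R} (hW : IsComplV J i.opensRange) (N : ModuleCat.{u} R) :
    (tF R).obj ((gamFunctor J).obj N) ⟶ (DCoh.gammaZ i).obj ((tF R).obj N) :=
  liftG i ((tF R).map (gamIncl J N)) (restrict_map_gamIncl i hW N)

theorem gamTildeHom_ι {J : Ideal R} (hW : IsComplV J i.opensRange) (N : ModuleCat.{u} R) :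
    gamTildeHom i hW N ≫ ιG i ((tF R).obj N) = (tF R).map (gamIncl J N) :=
  liftG_ι i ((tF R).map (gamIncl J N)) (restrict_map_gamIncl i hW N)

theorem mono_gamTildeHom {J : Ideal R} (hW : IsComplV J i.opensRange) (N : ModuleCat.{u} R) :
    Mono (gamTildeHom i hW N) := by
  have hm := mono_gamIncl J N
  have h0 : Mono ((tF R).map (gamIncl J N)) := inferInstance
  have h1 : Mono (gamTildeHom i hW N ≫ ιG i ((tF R).obj N)) := by
    rw [gamTildeHom_ι i hW N]
    exact h0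
  exact mono_of_mono (gamTildeHom i hW N) (ιG i ((tF R).obj N))

/-- elements of the torsion functor. -/
def gamElt (J : Ideal R) (N : ModuleCat.{u} R) (x : N) (hx : x ∈ gam J N) : (gamFunctor J).obj N :=
  (⟨x, hx⟩ : gam J N)

omit [IsNoetherianRing R] in
theorem gamIncl_gamElt (J : Ideal R) (N : ModuleCat.{u} R) (x : N) (hx : x ∈ gam J N) :
    gamIncl J N (gamElt J N x hx) = x := rfl

theorem ιG_gamTildeHom {J : Ideal R} (hW : IsComplV J i.opensRange) (N : ModuleCat.{u} R) (y : (gamFunctor J).obj N) :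
    (ιG i ((tF R).obj N)).app ⊤ ((gamTildeHom i hW N).app ⊤ (sec y)) = sec (gamIncl J N y) := by
  rw [← map_sec (gamIncl J N) y, ← gamTildeHom_ι i hW N]
  rfl

theorem surjective_gamTildeHom {J : Ideal R} (hW : IsComplV J i.opensRange) (N : ModuleCat.{u} R) :
    Function.Surjective ((gamTildeHom i hW N).app ⊤) := by
  intro t
  have h1 : (ιG i ((tF R).obj N)).app ⊤ t ∈ Set.range ((ιG i ((tF R).obj N)).app ⊤) := ⟨t, rfl⟩
  rw [mem_range_ιG_iff i hW ((tF R).obj N) (isQCoh_obj N)] at h1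
  obtain ⟨x, hx⟩ := (sec_bijective N).2 ((ιG i ((tF R).obj N)).app ⊤ t)
  have hx' : x ∈ gam J N := by
    rw [mem_gam_iff_of_injective (secL N) (sec_bijective N).1]
    rw [← hx] at h1
    exact h1
  refine ⟨sec (gamElt J N x hx'), ?_⟩
  apply ιG_app_injective i ((tF R).obj N) ⊤
  rw [ιG_gamTildeHom i hW N, gamIncl_gamElt, hx]

theorem isIso_gamTildeHom {J : Ideal R} (hW : IsComplV J i.opensRange) (N : ModuleCat.{u} R) :
    IsIso (gamTildeHom i hW N) := by
  have := quasiCompact i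
  have h2 : Coh.IsQCoh ((DCoh.gammaZ i).obj ((tF R).obj N)) := isQCoh_gammaZ i _ (isQCoh_obj N)
  have := mono_gamTildeHom i hW N
  exact Groth.Agent.PerfB.FlatAdj.isIso_of_app_top (isQCoh_obj ((gamFunctor J).obj N)) h2 (gamTildeHom i hW N)
    ⟨Groth.Agent.PerfB.ModExact.app_injective_of_mono _ ⊤, surjective_gamTildeHom i hW N⟩

theorem gamTildeHom_naturality {J : Ideal R} (hW : IsComplV J i.opensRange) {N N' : ModuleCat.{u} R} (f : N ⟶ N') :
    (tF R).map ((gamFunctor J).map f) ≫ gamTildeHom i hW N' =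
      gamTildeHom i hW N ≫ (DCoh.gammaZ i).map ((tF R).map f) := by
  rw [← cancel_mono (ιG i ((tF R).obj N')), Category.assoc, gamTildeHom_ι i hW N', Category.assoc,
    map_ιG i ((tF R).map f), ← Category.assoc, gamTildeHom_ι i hW N, ← Functor.map_comp,
    ← Functor.map_comp]
  rfl

/-- `(Γ_J N)~ ≅ Γ_Z (N~)`, naturally. -/
noncomputable def gamTildeIso {J : Ideal R} (hW : IsComplV J i.opensRange) :
    gamFunctor J ⋙ tF R ≅ tF R ⋙ DCoh.gammaZ i :=
  K50.NatAux.mkIso' (gamFunctor J) (tF R) (tF R) (DCoh.gammaZ i)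
    (fun N => gamTildeHom i hW N) (fun N => isIso_gamTildeHom i hW N)
    (fun _ _ f => gamTildeHom_naturality i hW f)

end K50.TildeGam
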