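import Groth.Agent.Coherent.K50.PhiAcyc
import Groth.Agent.Coherent.K50.HomR
import Groth.Agent.Htor.H255.DimShift
import Groth.Agent.Htor.H255.ExtRD

/-!
# The sheaf Hom (with supports) of associated sheaves

* `homTildeIso : homR M ⋙ tF R ≅ tF R ⋙ homFunctor M~`.
* `psiTildeIso : psi M J ⋙ tF R ≅ tF R ⋙ phi M~ k`.
* `nonempty_hom_rightDerived`, `nonempty_phi_rightDerived`.
-/

set_option autoImplicit false
universe u

open CategoryTheory CategoryTheory.Limits AlgebraicGeometry Opposite TopologicalSpace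

namespace K50.TildeHomIso

open K50.SectOn K50.ExtRes K50.GamInj K50.GamAcyc K50.PhiAcyc K50.TF K50.HomR K50.TildeGam
open Groth.Agent.Dcoh.MonClosed Groth.Agent.CohqB.HomSheaf Groth.Agent.Cohder.RDAcyc
open Groth.Agent.Localalg.Gam

variable {R : CommRingCat.{u}}

/-- The morphism `K~ ⟶ F` given by a linear map `K → Γ(F)`. -/
noncomputable def fromT {K : ModuleCat.{u} R} {F : (Spec R).Modules} (g : K →ₗ[R] Γ(F, ⊤)) : (tF R).obj K ⟶ F :=
  ((adj R).homEquiv K F).symm (ModuleCat.ofHom (Y := Γ(F, ⊤)) g)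

theorem fromT_sec {K : ModuleCat.{u} R} {F : (Spec R).Modules} (g : K →ₗ[R] Γ(F, ⊤)) (x : K) :
    (fromT g).app ⊤ (sec x) = g x := by
  have h1 : ((adj R).homEquiv K F) (fromT g) = ModuleCat.ofHom (Y := Γ(F, ⊤)) g := Equiv.apply_symm_apply _ _
  rw [Adjunction.homEquiv_unit] at h1
  exact congrArg (fun ψ : K ⟶ (gF R).obj F => ψ x) h1

theorem isIso_fromT {K : ModuleCat.{u} R} {F : (Spec R).Modules} (hF : Coh.IsQCoh F) (g : K →ₗ[R] Γ(F, ⊤))
    (hg : Function.Bijective g) : IsIso (fromT g) := by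
  refine Groth.Agent.PerfB.FlatAdj.isIso_of_app_top (isQCoh_obj K) hF (fromT g) ?_
  constructor
  · intro a b h
    obtain ⟨x, rfl⟩ := (sec_bijective K).2 a
    obtain ⟨y, rfl⟩ := (sec_bijective K).2 b
    rw [fromT_sec, fromT_sec] at h
    rw [hg.1 h]
  · intro b
    obtain ⟨x, rfl⟩ := hg.2 b
    exact ⟨sec x, fromT_sec g x⟩

theorem gF_smul (F : (Spec R).Modules) (r : R) (s : Γ(F, ⊤)) :
    r • s = ((Scheme.ΓSpecIso R).inv r : Γ(Spec R, ⊤)) • s := rfl

variable (M : ModuleCat.{u} R)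

theorem ofHom_injective {X : Scheme.{u}} {A B : X.Modules} {φ ψ : A ⟶ B} (h : ofHom φ ⊤ = ofHom ψ ⊤) : φ = ψ :=
  (topEquiv A B).symm.injective h

/-- `φ~` as a global section of the sheaf Hom. -/
noncomputable def tSec {N : ModuleCat.{u} R} (φ : (homR (R := R) M).obj N) : Γ(homSheaf ((tF R).obj M) ((tF R).obj N), ⊤) :=
  ofHom ((tF R).map (ModuleCat.ofHom (toL M φ))) ⊤

theorem comp_tSec {N : ModuleCat.{u} R} (φ : (homR (R := R) M).obj N) (m : M) :
    comp (tSec M φ) ⊤ le_top (sec m) = sec (toL M φ m) :=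
  map_sec (ModuleCat.ofHom (toL M φ)) m

/-- A global section of the sheaf Hom out of `M~` is determined by its values on `M`. -/
theorem hom_sec_ext {F : (Spec R).Modules} {s t : Γ(homSheaf ((tF R).obj M) F, ⊤)}
    (h : ∀ m : M, comp s ⊤ le_top (sec m) = comp t ⊤ le_top (sec m)) : s = t := by
  apply (topEquiv _ _).injective
  exact tilde_ext _ _ h

theorem comp_smul_R {F : (Spec R).Modules} (r : R) (s : Γ(homSheaf ((tF R).obj M) F, ⊤)) (x : Γ((tF R).obj M, ⊤)) :
    comp (r • s) ⊤ le_top x = r • comp s ⊤ le_top x :=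
  congrArg (fun f : Γ((tF R).obj M, ⊤) →ₗ[Γ(Spec R, ⊤)] Γ(F, ⊤) => f x)
    (comp_self_smul ((Scheme.ΓSpecIso R).inv r : Γ(Spec R, ⊤)) s)

/-- Linear maps as global sections of the sheaf Hom. -/
noncomputable def homToΓ (N : ModuleCat.{u} R) :
    ((homR (R := R) M).obj N) →ₗ[R] Γ(homSheaf ((tF R).obj M) ((tF R).obj N), ⊤) where
  toFun := tSec M
  map_add' φ ψ := by
    apply hom_sec_ext
    intro m
    rw [comp_tSec]
    change _ = comp (tSec M φ) ⊤ le_top (sec m) + comp (tSec M ψ) ⊤ le_top (sec m)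
    rw [comp_tSec, comp_tSec, ← sec_add]
    rfl
  map_smul' r φ := by
    apply hom_sec_ext
    intro m
    rw [comp_tSec]
    change _ = comp (r • tSec M φ) ⊤ le_top (sec m)
    rw [comp_smul_R, comp_tSec, ← sec_smul]
    rfl

theorem bijective_homToΓ (N : ModuleCat.{u} R) : Function.Bijective (homToΓ M N) := by
  constructor
  · intro φ ψ h
    apply toL_ext
    intro m
    apply (sec_bijective N).1
    rw [← comp_tSec, ← comp_tSec]
    exact congrArg (fun s => comp s ⊤ le_top (sec m)) h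
  · intro s
    obtain ⟨f, hf⟩ := (tF R).map_surjective (topEquiv _ _ s)
    refine ⟨ofL M f.hom, ?_⟩
    apply (topEquiv _ _).injective
    exact hf

/-- `Hom_R(M, N)~ ⟶ Hom(M~, N~)`. -/
noncomputable def homTildeHom (N : ModuleCat.{u} R) :
    (tF R).obj ((homR (R := R) M).obj N) ⟶ (homFunctor ((tF R).obj M)).obj ((tF R).obj N) :=
  fromT (F := homSheaf ((tF R).obj M) ((tF R).obj N)) (homToΓ M N)

theorem homTildeHom_naturality {N N' : ModuleCat.{u} R} (f : N ⟶ N') :
    (tF R).map ((homR (R := R) M).map f) ≫ homTildeHom M N' =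
      homTildeHom M N ≫ (homFunctor ((tF R).obj M)).map ((tF R).map f) := by
  refine tilde_ext _ _ fun φ => ?_
  have h1 : (homTildeHom M N').app ⊤ (((tF R).map ((homR (R := R) M).map f)).app ⊤ (sec φ)) =
      tSec M ((homR (R := R) M).map f φ) := by
    rw [map_sec]
    exact fromT_sec _ _
  have h2 : ((homFunctor ((tF R).obj M)).map ((tF R).map f)).app ⊤ ((homTildeHom M N).app ⊤ (sec φ)) =
      ((homFunctor ((tF R).obj M)).map ((tF R).map f)).app ⊤ (tSec M φ) :=
    congrArg (fun z => ((homFunctor ((tF R).obj M)).map ((tF R).map f)).app ⊤ z) (fromT_sec _ _)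
  refine h1.trans (Eq.trans ?_ h2.symm)
  apply hom_sec_ext
  intro m
  rw [comp_tSec]
  refine Eq.trans ?_ (comp_homMap ((tF R).map f) (tSec M φ) ⊤ le_top (sec m)).symm
  rw [comp_tSec, map_sec]
  rfl

section Noeth

variable [IsNoetherianRing R] [Module.Finite R M]

theorem isIso_homTildeHom (N : ModuleCat.{u} R) : IsIso (homTildeHom M N) :=
  isIso_fromT (K50.HomAcyc.isQCoh_hom_tilde M _ (isQCoh_obj N)) _ (bijective_homToΓ M N)

/-- `Hom_R(M, -)~ ≅ Hom(M~, (-)~)`. -/
noncomputable def homTildeIso : homR (R := R) M ⋙ tF R ≅ tF R ⋙ homFunctor ((tF R).obj M) :=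
  K50.NatAux.mkIso' (homR (R := R) M) (tF R) (tF R) (homFunctor ((tF R).obj M))
    (fun N => homTildeHom M N) (fun N => isIso_homTildeHom M N) (fun _ _ f => homTildeHom_naturality M f)

/-- The Ext sheaf of associated sheaves. -/
theorem nonempty_hom_rightDerived [HasInjectiveResolutions (Spec R).Modules] (n : ℕ) (N : ModuleCat.{u} R) :
    Nonempty ((tF R).obj (((homR (R := R) M).rightDerived n).obj N) ≅
      ((homFunctor ((tF R).obj M)).rightDerived n).obj ((tF R).obj N)) :=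
  Groth.Agent.Htor.H255.DimShift.nonempty_iso (homR (R := R) M) (homFunctor ((tF R).obj M)) (tF R) (tF R)
    (homTildeIso M) (fun I _ => K50.HomAcyc.isAcyc_tilde I M) n N

variable {V : Scheme.{u}} (k : V ⟶ Spec R) [IsOpenImmersion k] {J : Ideal R}

/-- `(Γ_J Hom_R(M, -))~ ≅ Γ_Z Hom(M~, (-)~)`. -/
noncomputable def psiTildeIso (hW : IsComplV J k.opensRange) :
    psi (R := R) M J ⋙ tF R ≅ tF R ⋙ phi ((tF R).obj M) k :=
  K50.NatAux.glue (tF R) (homR (R := R) M) (gamFunctor J) (tF R) (tF R) (homFunctor ((tF R).obj M)) (DCoh.gammaZ k)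
    (homTildeIso M) (gamTildeIso k hW)

/-- The Ext sheaf with supports of associated sheaves. -/
theorem nonempty_phi_rightDerived [HasInjectiveResolutions (Spec R).Modules] (hW : IsComplV J k.opensRange)
    (n : ℕ) (N : ModuleCat.{u} R) :
    Nonempty ((tF R).obj (((psi (R := R) M J).rightDerived n).obj N) ≅
      ((phi ((tF R).obj M) k).rightDerived n).obj ((tF R).obj N)) :=
  Groth.Agent.Htor.H255.DimShift.nonempty_iso (psi (R := R) M J) (phi ((tF R).obj M) k) (tF R) (tF R)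
    (psiTildeIso M k hW) (fun I _ => isAcyc_phi k hW I M) n N

end Noeth

end K50.TildeHomIso
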